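import Mathlib
import Cfsg.Prelude.Def_GeometricClasses
import Cfsg.Agent.Lib.Unitary.Basic
import Cfsg.Agent.Lib.Unitary.Order
import Cfsg.Agent.Lib.Elusive.Linear
import Cfsg.Agent.Lib.ElusiveOrth.Witness

/-!
Similitudes of a unitary form inside `SL(n, q₀²)`: basic tools and derangements.
Owner: helper86.
-/

set_option autoImplicit false

namespace Cfsg.Agent.Lib.ElusiveUnit

open Module
open scoped Matrix

variable {F : Type*} [Field F] {n : ℕ} {q₀ : ℕ} {f : (Fin n → F) → (Fin n → F) → F}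

/-- `x` is an element of projective order `r` of `SL` with no conjugate in the similitude group. -/
def IsMover (f : (Fin n → F) → (Fin n → F) → F) (r : ℕ) (x : GL (Fin n) F) : Prop :=
  x ∈ Cfsg.Geo.specialLinear (Fin n) F ∧
  (∃ z : F, ((x ^ r : GL (Fin n) F) : Matrix (Fin n) (Fin n) F) = z • (1 : Matrix (Fin n) (Fin n) F)) ∧
  (∀ z : F, (x : Matrix (Fin n) (Fin n) F) ≠ z • (1 : Matrix (Fin n) (Fin n) F)) ∧
  ∀ g ∈ Cfsg.Geo.specialLinear (Fin n) F, g⁻¹ * x * g ∉ Cfsg.Geo.similarityGroup f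

theorem exists_gl (g : Module.End F (Fin n → F)) (h : LinearMap.det g = 1) :
    ∃ x : GL (Fin n) F, x ∈ Cfsg.Geo.specialLinear (Fin n) F ∧
      Matrix.toLin' (x : Matrix (Fin n) (Fin n) F) = g := by
  let y : Matrix.SpecialLinearGroup (Fin n) F :=
    ⟨LinearMap.toMatrix' g, by rw [LinearMap.det_toMatrix', h]⟩
  exact ⟨Matrix.SpecialLinearGroup.toGL y, Units.ext y.2, Matrix.toLin'_toMatrix' g⟩

theorem coe_pow_toLin (x : GL (Fin n) F) (k : ℕ) :
    Matrix.toLin' ((x ^ k : GL (Fin n) F) : Matrix (Fin n) (Fin n) F) =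
      Matrix.toLin' (x : Matrix (Fin n) (Fin n) F) ^ k := by
  rw [Units.val_pow_eq_pow_val, Matrix.toLin'_pow]

theorem smul_pow_eq_one {z : F} {r : ℕ} (hn : 0 < n)
    (h : (z • (1 : Module.End F (Fin n → F))) ^ r = 1) : z ^ r = 1 := by
  rw [_root_.smul_pow, one_pow] at h
  simpa using congrFun (LinearMap.congr_fun h (fun _ => 1)) (⟨0, hn⟩ : Fin n)

variable [Fintype F]

theorem root_eq_one {r : ℕ} [hr : Fact r.Prime] (hr1 : ¬ r ∣ Fintype.card F - 1) (z : F)
    (hzr : z ^ r = 1) : z = 1 := by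
  have hz : z ≠ 0 := fun h => by simp [h, hr.out.ne_zero] at hzr
  rcases (Nat.dvd_prime hr.out).mp (orderOf_dvd_of_pow_eq_one hzr) with h3 | h3
  · exact orderOf_eq_one_iff.mp h3
  · exact absurd (h3 ▸ orderOf_dvd_of_pow_eq_one (FiniteField.pow_card_sub_one_eq_one z hz)) hr1

section Form

variable (hF : Fintype.card F = q₀ ^ 2) (hf : Cfsg.Geo.IsUnitaryFormPow q₀ f)
include hF hf

theorem add_right (u v w : Fin n → F) : f u (v + w) = f u v + f u w := by
  rw [hf.herm, hf.add_left, Unitary.add_pow_q hF, ← hf.herm, ← hf.herm]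

theorem smul_right (c : F) (u v : Fin n → F) : f u (c • v) = c ^ q₀ * f u v := by
  rw [hf.herm, hf.smul_left, mul_pow, ← hf.herm]

omit hF in
theorem zero_left (v : Fin n → F) : f 0 v = 0 := by
  rw [← zero_smul F (0 : Fin n → F), hf.smul_left, zero_mul]

theorem zero_right (v : Fin n → F) : f v 0 = 0 := by
  rw [hf.herm, zero_left hf, Unitary.zero_pow_q hF]

theorem self_fixed (v : Fin n → F) : f v v ^ q₀ = f v v := (hf.herm v v).symm

theorem eq_zero_symm {u v : Fin n → F} (h : f u v = 0) : f v u = 0 := by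
  rw [hf.herm, h, Unitary.zero_pow_q hF]

omit hF in
/-- `x ↦ f x v` as a linear map. -/
def lin (v : Fin n → F) : (Fin n → F) →ₗ[F] F where
  toFun x := f x v
  map_add' x y := hf.add_left x y v
  map_smul' c x := hf.smul_left c x v

omit hF in
theorem sum_left {ι : Type*} (s : Finset ι) (c : ι → F) (g : ι → Fin n → F) (v : Fin n → F) :
    f (∑ i ∈ s, c i • g i) v = ∑ i ∈ s, c i * f (g i) v := by
  have h := map_sum (lin hf v) (fun i => c i • g i) s
  simp only [map_smul, smul_eq_mul] at h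
  exact h

theorem sum_right {ι : Type*} (s : Finset ι) (c : ι → F) (g : ι → Fin n → F) (v : Fin n → F) :
    f v (∑ i ∈ s, c i • g i) = ∑ i ∈ s, c i ^ q₀ * f v (g i) := by
  rw [hf.herm, sum_left hf, Unitary.sum_pow_q hF]
  simp only [mul_pow, ← hf.herm]

/-- A scalar multiplier on a basis is a similitude. -/
theorem simil_of_basis {ι : Type} [Fintype ι] (v : Basis ι F (Fin n → F))
    (y : Module.End F (Fin n → F)) (c : F)
    (h : ∀ i j, f (y (v i)) (y (v j)) = c * f (v i) (v j)) :
    ∀ u w, f (y u) (y w) = c * f u w := by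
  intro u w
  conv_lhs => rw [← v.sum_repr u, ← v.sum_repr w, map_sum, map_sum]
  simp only [map_smul]
  rw [sum_left hf]
  conv_rhs => rw [← v.sum_repr u, ← v.sum_repr w, sum_left hf]
  simp only [sum_right hF hf, Finset.mul_sum, h]
  exact Finset.sum_congr rfl fun i _ => Finset.sum_congr rfl fun j _ => by ring

/-- A conjugate in the similitude group gives a unitary form moved only by a scalar. -/
theorem exists_form (hn : 0 < n) (x g : GL (Fin n) F)
    (h : g⁻¹ * x * g ∈ Cfsg.Geo.similarityGroup f) :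
    ∃ f' : (Fin n → F) → (Fin n → F) → F, Cfsg.Geo.IsUnitaryFormPow q₀ f' ∧
      ∃ c : F, c ≠ 0 ∧ c ^ q₀ = c ∧
        ∀ u v, f' (Matrix.toLin' (x : Matrix (Fin n) (Fin n) F) u)
          (Matrix.toLin' (x : Matrix (Fin n) (Fin n) F) v) = c * f' u v := by
  obtain ⟨c, hc⟩ := h
  set P := Matrix.toLin' ((g⁻¹ : GL (Fin n) F) : Matrix (Fin n) (Fin n) F)
  have hP : ∀ u, Matrix.toLin' (g : Matrix (Fin n) (Fin n) F) (P u) = u := fun u => by
    rw [← LinearMap.comp_apply, ← Matrix.toLin'_mul, ← Units.val_mul, mul_inv_cancel,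
      Units.val_one, Matrix.toLin'_one, LinearMap.id_apply]
  have hP' : ∀ u, P (Matrix.toLin' (g : Matrix (Fin n) (Fin n) F) u) = u := fun u => by
    rw [← LinearMap.comp_apply, ← Matrix.toLin'_mul, ← Units.val_mul, inv_mul_cancel,
      Units.val_one, Matrix.toLin'_one, LinearMap.id_apply]
  refine ⟨fun u v => f (P u) (P v), ⟨fun a b v => by rw [map_add, hf.add_left],
    fun a u v => by rw [map_smul, hf.smul_left], fun u v => hf.herm _ _, fun v hv => ?_⟩,
    c, c.ne_zero, ?_, fun u v => ?_⟩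
  · obtain ⟨⟨a, ha⟩, ⟨b, hb⟩⟩ := hf.nondegenerate (P v) fun h0 => hv (by rw [← hP v, h0, map_zero])
    exact ⟨⟨Matrix.toLin' (g : Matrix (Fin n) (Fin n) F) a, by show f (P _) (P v) ≠ 0; rw [hP']; exact ha⟩,
      ⟨Matrix.toLin' (g : Matrix (Fin n) (Fin n) F) b, by show f (P v) (P _) ≠ 0; rw [hP']; exact hb⟩⟩
  · obtain ⟨-, v, hv⟩ := hf.nondegenerate (Pi.single ⟨0, hn⟩ 1) (by simp)
    set A := ((g⁻¹ * x * g : GL (Fin n) F) : Matrix (Fin n) (Fin n) F)
    have h1 := congrArg (fun t => t ^ q₀) (hc v (Pi.single ⟨0, hn⟩ 1))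
    simp only [mul_pow, ← hf.herm] at h1
    rw [hc] at h1
    exact (mul_right_cancel₀ hv h1).symm
  · have hA : ∀ w, P (Matrix.toLin' (x : Matrix (Fin n) (Fin n) F) w) =
        ((g⁻¹ * x * g : GL (Fin n) F) : Matrix (Fin n) (Fin n) F) *ᵥ (P w) := fun w => by
      rw [← Matrix.toLin'_apply, Units.val_mul, Units.val_mul, Matrix.toLin'_mul, Matrix.toLin'_mul,
        LinearMap.comp_apply, LinearMap.comp_apply, hP]
    show f (P _) (P _) = _
    rw [hA, hA]
    exact hc _ _

omit [Fintype F] hF in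
theorem scalar_pow {g : Module.End F (Fin n → F)} {c : F} (h : ∀ u v, f (g u) (g v) = c * f u v) :
    ∀ k u v, f ((g ^ k) u) ((g ^ k) v) = c ^ k * f u v := by
  intro k
  induction k with
  | zero => intro u v; simp
  | succ k ih =>
    intro u v
    rw [pow_succ', Module.End.mul_apply, Module.End.mul_apply, h, ih, pow_succ', mul_assoc]

/-- Paired coordinates of a diagonal similitude with fixed values. -/
theorem card_le_paired (w : Fin n → F) (hw : ∀ i, w i ^ q₀ = w i) {c : F}
    (h : ∀ u v, f (Matrix.toLin' (Matrix.diagonal w) u) (Matrix.toLin' (Matrix.diagonal w) v) = c * f u v)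
    (a b : F) (hab : ∀ j, w j ≠ b → a * w j ≠ c) :
    Nat.card {i // w i = a} ≤ Nat.card {j // w j = b} := by
  classical
  have hsingle : ∀ i, Matrix.toLin' (Matrix.diagonal w) (Pi.single i 1) = w i • Pi.single i (1 : F) := fun i => by
    funext k
    simp [Matrix.mulVec_diagonal, Pi.single_apply]
    split_ifs with hki <;> simp [hki]
  have hzero : ∀ i j, w i * w j ≠ c → f (Pi.single i 1) (Pi.single j 1) = 0 := fun i j hij => by
    have h1 := h (Pi.single i 1) (Pi.single j 1)
    rw [hsingle, hsingle, hf.smul_left, smul_right hF hf, hw, ← mul_assoc] at h1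
    by_contra h0
    exact hij (mul_right_cancel₀ h0 h1)
  let E : ({i // w i = a} → F) →ₗ[F] (Fin n → F) :=
    Fintype.linearCombination F fun i : {i // w i = a} => Pi.single i.1 1
  have hE : Function.Injective E := fun g g' h => funext fun i => by
    have := congrFun h i.1
    simpa [E, Fintype.linearCombination_apply, Pi.single_apply, Subtype.val_inj] using this
  let L : ({i // w i = a} → F) →ₗ[F] ({j // w j = b} → F) :=
    LinearMap.pi fun j => (lin hf (Pi.single j.1 1)).comp E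
  have hL : Function.Injective L := by
    rw [injective_iff_map_eq_zero]
    intro g hg
    refine (injective_iff_map_eq_zero E).mp hE g ?_
    by_contra h0
    obtain ⟨-, y, hy⟩ := hf.nondegenerate _ h0
    have hall : ∀ j, f (E g) (Pi.single j 1) = 0 := fun j => by
      by_cases hj : w j = b
      · exact congrFun hg ⟨j, hj⟩
      · rw [show E g = ∑ i : {i // w i = a}, g i • (Pi.single i.1 1 : Fin n → F) from
          Fintype.linearCombination_apply F _ g, sum_left hf]
        refine Finset.sum_eq_zero fun i _ => ?_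
        rw [hzero _ _ (i.2.symm ▸ hab j hj), mul_zero]
    refine hy ?_
    conv_lhs => rw [← (Pi.basisFun F (Fin n)).sum_repr y]
    rw [sum_right hF hf]
    exact Finset.sum_eq_zero fun j _ => by simp [hall j]
  have h3 := LinearMap.finrank_le_finrank_of_injective hL
  rwa [finrank_fintype_fun_eq_card, finrank_fintype_fun_eq_card, ← Nat.card_eq_fintype_card,
    ← Nat.card_eq_fintype_card] at h3

theorem exists_mover_of_witness (hn : 0 < n) {r : ℕ} {w : Fin n → F}
    (hw : ElusiveOrth.IsWitness r w) (hfix : ∀ i, w i ^ q₀ = w i) : ∃ x, IsMover f r x := by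
  obtain ⟨hdet, ⟨z, hz⟩, hns, hc⟩ := hw
  obtain ⟨x, hx, hxw⟩ := exists_gl (Matrix.toLin' (Matrix.diagonal w))
    (by rw [LinearMap.det_toLin', Matrix.det_diagonal, hdet])
  have hxM : (x : Matrix (Fin n) (Fin n) F) = Matrix.diagonal w := Matrix.toLin'.injective hxw
  refine ⟨x, hx, ⟨z, ?_⟩, fun t ht => ?_, fun g hg hmem => ?_⟩
  · rw [Units.val_pow_eq_pow_val, hxM, Matrix.diagonal_pow, Matrix.smul_one_eq_diagonal]
    exact congrArg Matrix.diagonal (funext fun i => hz i)
  · obtain ⟨i, j, hij⟩ := hns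
    rw [hxM, Matrix.smul_one_eq_diagonal] at ht
    exact hij ((congrFun (Matrix.diagonal_injective ht) i).trans
      (congrFun (Matrix.diagonal_injective ht) j).symm)
  · obtain ⟨f', hf', c, hc0, -, hfc⟩ := exists_form hF hf hn x g hmem
    rw [hxw] at hfc
    obtain ⟨a, ha, hlt⟩ := hc c hc0
    exact absurd (card_le_paired hF hf' w hfix hfc a (c / a)
      fun j hj hac => hj (by rw [← hac]; field_simp)) (by omega)

/-- `r = 2`: a square root of a non-square scalar. -/
theorem exists_mover_two (hn : 0 < n) (h2 : (2 : F) ≠ 0)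
    (hv : padicValNat 2 (Fintype.card F - 1) < padicValNat 2 n) : ∃ x, IsMover f 2 x := by
  haveI : Fact (Nat.Prime 2) := ⟨Nat.prime_two⟩
  have hchar : ringChar F ≠ 2 := fun h => h2 (by
    have := ringChar.Nat.cast_ringChar (R := F)
    rw [h] at this
    exact_mod_cast this)
  have hdvd : 2 ∣ Fintype.card F - 1 := by
    have := FiniteField.odd_card_of_char_ne_two hchar
    omega
  have h2n : 2 ∣ n := dvd_of_one_le_padicValNat (by omega)
  obtain ⟨s, hs⟩ := h2n
  obtain ⟨z, hz, hzs⟩ := (Elusive.Linear.exists_nonsplit_scalar_iff (F := F) hdvd hs (by omega)).mpr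
    (fun hc => absurd hc.1 (by omega))
  obtain ⟨g, hg⟩ := Elusive.exists_nonsplit (V := Fin n → F) hz s (by rw [finrank_fin_fun, hs])
  obtain ⟨t, ht, hdet⟩ := Elusive.nonsplit_det hz hg
  rw [finrank_fin_fun] at ht
  obtain ⟨x, hxS, hx⟩ := exists_gl g (by rw [hdet, show t = s by omega, hzs])
  refine ⟨x, hxS, ⟨z, by rw [Elusive.Linear.eq_smul_one_iff, coe_pow_toLin, hx, hg]⟩,
    fun c hc => ?_, fun P hPS hP => ?_⟩
  · rw [Elusive.Linear.eq_smul_one_iff, hx] at hc
    subst hc
    rw [_root_.smul_pow, one_pow] at hg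
    refine hz c ?_
    simpa using congrFun (LinearMap.congr_fun hg (fun _ => 1)) (⟨0, hn⟩ : Fin n)
  · obtain ⟨f', hf', c, hc0, hcq, hfc⟩ := exists_form hF hf hn x P hP
    rw [hx] at hfc
    obtain ⟨-, v, hv'⟩ := hf'.nondegenerate (Pi.single ⟨0, hn⟩ 1) (by simp)
    have h1 := scalar_pow hf' hfc 2 (Pi.single ⟨0, hn⟩ 1) v
    rw [hg, LinearMap.smul_apply, LinearMap.smul_apply, Module.End.one_apply, Module.End.one_apply,
      hf'.smul_left, smul_right hF hf', ← mul_assoc, ← pow_succ'] at h1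
    have hc2 : z ^ (q₀ + 1) = c ^ 2 := mul_right_cancel₀ hv' h1
    have hz0 : z ≠ 0 := fun h => hz 0 (by rw [h, zero_pow two_ne_zero])
    have hsq : IsSquare z := by
      rw [FiniteField.isSquare_iff hchar hz0, hF]
      have hq1 : 1 ≤ q₀ := (Unitary.one_lt_q hF).le
      have hodd : Odd q₀ := by
        have h' := FiniteField.odd_card_of_char_ne_two hchar
        rw [hF, ← Nat.odd_iff, Nat.odd_pow_iff two_ne_zero] at h'
        exact h'
      obtain ⟨m, hm⟩ := hodd
      rw [show q₀ ^ 2 / 2 = (q₀ + 1) * m by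
        rw [hm, show (2 * m + 1) ^ 2 = 1 + 2 * ((2 * m + 1 + 1) * m) by ring,
          Nat.add_mul_div_left _ _ two_pos]
        simp, pow_mul, hc2, ← pow_mul]
      have hcm : c ^ (2 * m) * c = 1 * c := by rw [← pow_succ, ← hm, hcq, one_mul]
      exact mul_right_cancel₀ hc0 hcm
    obtain ⟨a, ha⟩ := hsq
    exact hz a (by rw [ha, pow_two])

end Form

end Cfsg.Agent.Lib.ElusiveUnit
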