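import Mathlib
import Cfsg.Agent.Lib.ElusiveUnit.Common

/-!
Orthonormal bases of an arbitrary unitary form.
Owner: helper86.
-/

set_option autoImplicit false

namespace Cfsg.Agent.Lib.ElusiveUnit

open Module
open scoped Matrix

variable {F : Type*} [Field F] [Fintype F] {n : ℕ} {q₀ : ℕ} {f : (Fin n → F) → (Fin n → F) → F}

theorem exists_orthonormal_of_nondeg (hF : Fintype.card F = q₀ ^ 2) (hf : Cfsg.Geo.IsUnitaryFormPow q₀ f) :
    ∀ (k : ℕ) (W : Submodule F (Fin n → F)), finrank F W = k →
      (∀ u ∈ W, (∀ v ∈ W, f u v = 0) → u = 0) →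
      ∃ e : Fin k → Fin n → F, (∀ i j, f (e i) (e j) = if i = j then 1 else 0) ∧ (∀ i, e i ∈ W) := by
  intro k
  induction k with
  | zero => intro W _ _; exact ⟨Fin.elim0, fun i => i.elim0, fun i => i.elim0⟩
  | succ k ih =>
    intro W hk hW
    obtain ⟨w, hwW, hw⟩ : ∃ w ∈ W, f w w ≠ 0 := by
      by_contra h
      push Not at h
      have hne : W ≠ ⊥ := fun h => by rw [h, finrank_bot] at hk; omega
      obtain ⟨u, hu, hu0⟩ := W.ne_bot_iff.mp hne
      obtain ⟨v, hv, huv⟩ : ∃ v ∈ W, f u v ≠ 0 := by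
        by_contra h'
        push Not at h'
        exact hu0 (hW u hu h')
      obtain ⟨t, ht⟩ := Unitary.trace_surj hF (y := (1 : F)) (one_pow q₀)
      have h1 := h ((t * (f u v)⁻¹) • u + v) (W.add_mem (W.smul_mem _ hu) hv)
      rw [hf.add_left, hf.smul_left, add_right hF hf, add_right hF hf, h v hv, add_zero,
        smul_right hF hf, h u hu, mul_zero, zero_add, smul_right hF hf, mul_assoc,
        inv_mul_cancel₀ huv, mul_one, mul_pow, mul_assoc, hf.herm v u, ← mul_pow,
        inv_mul_cancel₀ huv, one_pow, mul_one, ht] at h1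
      exact one_ne_zero h1
    obtain ⟨d, hd⟩ := Unitary.norm_surj hF (y := (f w w)⁻¹) (by
      rw [inv_pow, self_fixed hF hf])
    set e₀ := d • w with he₀
    have he : f e₀ e₀ = 1 := by
      rw [he₀, hf.smul_left, smul_right hF hf, ← mul_assoc, hd, inv_mul_cancel₀ hw]
    have he₀W : e₀ ∈ W := W.smul_mem _ hwW
    set W' := W ⊓ LinearMap.ker (lin hf e₀) with hW'
    have hmem : ∀ {v}, v ∈ W' ↔ v ∈ W ∧ f v e₀ = 0 := Iff.rfl
    have hdec : ∀ v ∈ W, v - f v e₀ • e₀ ∈ W' := fun v hv => hmem.2
      ⟨W.sub_mem hv (W.smul_mem _ he₀W), by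
        show lin hf e₀ (v - f v e₀ • e₀) = 0
        rw [map_sub, map_smul]
        show f v e₀ - f v e₀ • f e₀ e₀ = 0
        rw [he, smul_eq_mul, mul_one, sub_self]⟩
    have hsup : W' ⊔ Submodule.span F {e₀} = W := by
      refine le_antisymm (sup_le inf_le_left ((Submodule.span_singleton_le_iff_mem _ _).2 he₀W)) ?_
      intro v hv
      exact Submodule.mem_sup.2 ⟨_, hdec v hv, _,
        Submodule.smul_mem _ _ (Submodule.mem_span_singleton_self e₀), sub_add_cancel _ _⟩
    have hinf : W' ⊓ Submodule.span F {e₀} = ⊥ := by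
      rw [Submodule.eq_bot_iff]
      rintro v ⟨hv1, hv2⟩
      obtain ⟨a, rfl⟩ := Submodule.mem_span_singleton.1 hv2
      have := (hmem.1 hv1).2
      rw [hf.smul_left, he, mul_one] at this
      simp [this]
    have hk' : finrank F W' = k := by
      have h := Submodule.finrank_sup_add_finrank_inf_eq W' (Submodule.span F {e₀})
      rw [hsup, hinf, finrank_bot, hk, finrank_span_singleton
        (fun h0 : e₀ = 0 => by simp [h0, zero_left hf] at he)] at h
      omega
    obtain ⟨e, he', heW⟩ := ih W' hk' fun u hu h => by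
      refine hW u (hmem.1 hu).1 fun v hv => ?_
      have h1 := h _ (hdec v hv)
      rwa [sub_eq_add_neg, ← neg_smul, add_right hF hf, smul_right hF hf, (hmem.1 hu).2, mul_zero,
        add_zero] at h1
    refine ⟨Fin.cons e₀ e, ?_, Fin.cons (by simpa using he₀W) (fun i => by simpa using (hmem.1 (heW i)).1)⟩
    intro i j
    refine Fin.cases ?_ (fun i => ?_) i <;> refine Fin.cases ?_ (fun j => ?_) j
    · simpa using he
    · simpa [(Fin.succ_ne_zero j).symm] using eq_zero_symm hF hf (hmem.1 (heW j)).2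
    · simpa [Fin.succ_ne_zero i] using (hmem.1 (heW i)).2
    · simpa [Fin.succ_inj] using he' i j

/-- An orthonormal basis. -/
theorem exists_onb (hF : Fintype.card F = q₀ ^ 2) (hf : Cfsg.Geo.IsUnitaryFormPow q₀ f) :
    ∃ e : Basis (Fin n) F (Fin n → F), ∀ i j, f (e i) (e j) = if i = j then 1 else 0 := by
  obtain ⟨e, he, -⟩ := exists_orthonormal_of_nondeg hF hf n ⊤ (by rw [finrank_top, finrank_fin_fun])
    fun u _ h => by
      by_contra hu
      obtain ⟨-, v, hv⟩ := hf.nondegenerate u hu
      exact hv (h v trivial)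
  have hli : LinearIndependent F e := by
    rw [Fintype.linearIndependent_iff]
    intro c hc i
    have h := congrArg (fun u => f u (e i)) hc
    simpa [sum_left hf, he, zero_left hf] using h
  refine ⟨basisOfTopLeSpanOfCardEqFinrank e
    (hli.span_eq_top_of_card_eq_finrank' (by simp)).ge (by simp), fun i j => ?_⟩
  simpa using he i j

end Cfsg.Agent.Lib.ElusiveUnit
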