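import Mathlib
import Cfsg.Agent.Lib.ElusiveUnit.Frame
import Cfsg.Agent.Lib.ElusiveOrth.Exceptional
import Cfsg.Agent.Lib.SingerNorm.Order

/-!
Elements of `SL(n, q₀²)` with a conjugate among the similitudes of a unitary form: involutions modulo
scalars, and elements of order `r = n ∈ {3, 5}` when `v_r(q₀ - 1) = 1`.
Owner: helper86.
-/

set_option autoImplicit false

namespace Cfsg.Agent.Lib.ElusiveUnit

open Module Polynomial
open scoped Matrix

variable {F : Type*} [Field F] [Fintype F] {n : ℕ} {q₀ : ℕ} {f : (Fin n → F) → (Fin n → F) → F}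

/-- An element conjugate in `GL` to a similitude, with centraliser of every determinant. -/
theorem exists_conj (x : GL (Fin n) F) (g₀ : (Fin n → F) ≃ₗ[F] (Fin n → F))
    (y : Module.End F (Fin n → F)) {c : F} (hc : c ≠ 0) (hy : ∀ u v, f (y u) (y v) = c * f u v)
    (hxy : ∀ v, Matrix.toLin' (x : Matrix (Fin n) (Fin n) F) (g₀ v) = g₀ (y v))
    (hk : ∀ d : F, d ≠ 0 → ∃ k : Module.End F (Fin n → F),
      Matrix.toLin' (x : Matrix (Fin n) (Fin n) F) * k = k * Matrix.toLin' (x : Matrix (Fin n) (Fin n) F) ∧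
        LinearMap.det k = d) :
    ∃ g ∈ Cfsg.Geo.specialLinear (Fin n) F, g⁻¹ * x * g ∈ Cfsg.Geo.similarityGroup f := by
  set d := LinearMap.det (g₀ : (Fin n → F) →ₗ[F] (Fin n → F))
  have hd : d ≠ 0 := (LinearEquiv.isUnit_det' g₀).ne_zero
  obtain ⟨k, hkx, hkd⟩ := hk d⁻¹ (inv_ne_zero hd)
  obtain ⟨g, hg, hgl⟩ := exists_gl (k * (g₀ : (Fin n → F) →ₗ[F] (Fin n → F)))
    (by rw [map_mul, hkd, inv_mul_cancel₀ hd])
  refine ⟨g, hg, Units.mk0 c hc, fun u v => ?_⟩
  have hxg : Matrix.toLin' (x : Matrix (Fin n) (Fin n) F) * Matrix.toLin' (g : Matrix (Fin n) (Fin n) F) =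
      Matrix.toLin' (g : Matrix (Fin n) (Fin n) F) * y := by
    refine LinearMap.ext fun v => ?_
    rw [hgl, ← mul_assoc, hkx]
    simp only [Module.End.mul_apply, LinearEquiv.coe_coe, hxy]
  have h : Matrix.toLin' ((g⁻¹ * x * g : GL (Fin n) F) : Matrix (Fin n) (Fin n) F) = y := by
    rw [Units.val_mul, Units.val_mul, Matrix.mul_assoc, Matrix.toLin'_mul, Matrix.toLin'_mul,
      ← Module.End.mul_eq_comp, ← Module.End.mul_eq_comp, hxg, ← mul_assoc,
      show Matrix.toLin' ((g⁻¹ : GL (Fin n) F) : Matrix (Fin n) (Fin n) F) *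
          Matrix.toLin' (g : Matrix (Fin n) (Fin n) F) = 1 by
        rw [Module.End.mul_eq_comp, ← Matrix.toLin'_mul, ← Units.val_mul, inv_mul_cancel, Units.val_one,
          Matrix.toLin'_one]
        rfl, one_mul]
  rw [← Matrix.toLin'_apply, ← Matrix.toLin'_apply (_ : Matrix (Fin n) (Fin n) F) v, h]
  exact hy u v

/-- An element diagonal in some basis, with values those of a diagonal similitude. -/
theorem exists_conj_diag (x : GL (Fin n) F) {ι : Type} [Fintype ι] [DecidableEq ι]
    (b e : Basis ι F (Fin n → F)) (i₀ : ι) (w : ι → F)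
    (hb : ∀ i, Matrix.toLin' (x : Matrix (Fin n) (Fin n) F) (b i) = w i • b i)
    (y : Module.End F (Fin n → F)) (hy : ∀ i, y (e i) = w i • e i) {c : F} (hc : c ≠ 0)
    (hyc : ∀ u v, f (y u) (y v) = c * f u v) :
    ∃ g ∈ Cfsg.Geo.specialLinear (Fin n) F, g⁻¹ * x * g ∈ Cfsg.Geo.similarityGroup f := by
  let g₀ : (Fin n → F) ≃ₗ[F] (Fin n → F) := e.equiv b (Equiv.refl _)
  refine exists_conj x g₀ y hc hyc (fun v => ?_) fun d _ => ?_
  · exact LinearMap.congr_fun (e.ext (f₁ := (Matrix.toLin' (x : Matrix (Fin n) (Fin n) F)).comp g₀.toLinearMap)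
      (f₂ := g₀.toLinearMap.comp y) fun i => by simp [g₀, hy, hb]) v
  · let u : ι → F := Function.update (fun _ => 1) i₀ d
    let k : Module.End F (Fin n → F) := Matrix.toLin b b (Matrix.diagonal u)
    have hk : ∀ i, k (b i) = u i • b i := fun i => by
      rw [Matrix.toLin_self, Finset.sum_eq_single i]
      · simp
      · intro j _ hj; simp [Matrix.diagonal_apply_ne _ hj]
      · simp
    refine ⟨k, b.ext fun i => ?_, ?_⟩
    · simp only [Module.End.mul_apply, hk, hb, map_smul, smul_smul, mul_comm]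
    · rw [LinearMap.det_toLin, Matrix.det_diagonal, Finset.prod_eq_single i₀
        (fun i _ hi => by simp [u, hi]) (by simp)]
      simp [u]

variable (hF : Fintype.card F = q₀ ^ 2) (hf : Cfsg.Geo.IsUnitaryFormPow q₀ f)
include hF hf

/-- Involutions modulo scalars in odd characteristic. -/
theorem fix_two_odd (h2 : (2 : F) ≠ 0) (hn : 0 < n)
    (hv : padicValNat 2 n ≤ padicValNat 2 (Fintype.card F - 1))
    (x : GL (Fin n) F) (hxs : x ∈ Cfsg.Geo.specialLinear (Fin n) F) {z : F}
    (hz : ((x ^ 2 : GL (Fin n) F) : Matrix (Fin n) (Fin n) F) = z • (1 : Matrix (Fin n) (Fin n) F)) :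
    ∃ g ∈ Cfsg.Geo.specialLinear (Fin n) F, g⁻¹ * x * g ∈ Cfsg.Geo.similarityGroup f := by
  classical
  haveI : Fact (Nat.Prime 2) := ⟨Nat.prime_two⟩
  have hchar : ringChar F ≠ 2 := fun h => h2 (by
    have := ringChar.Nat.cast_ringChar (R := F)
    rw [h] at this
    exact_mod_cast this)
  set g := Matrix.toLin' (x : Matrix (Fin n) (Fin n) F) with hg
  rw [Elusive.Linear.eq_smul_one_iff, coe_pow_toLin, ← hg] at hz
  have hdet : LinearMap.det g = 1 := by
    rw [hg, LinearMap.det_toLin']
    exact congrArg Units.val hxs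
  have hz0 : z ≠ 0 := fun h => by
    have h1 := congrArg LinearMap.det hz
    rw [map_pow, hdet, one_pow, h, LinearMap.det_smul, zero_pow (by simp; omega), zero_mul] at h1
    exact one_ne_zero h1
  obtain ⟨μ, hμ⟩ : ∃ μ, μ * μ = z := by
    by_contra hsq
    have hsq' : ∀ c : F, c ^ 2 ≠ z := fun c hc => hsq ⟨c, by rw [← pow_two, hc]⟩
    obtain ⟨s, hs, hd⟩ := Elusive.nonsplit_det hsq' hz
    rw [finrank_fin_fun] at hs
    have hdvd : 2 ∣ Fintype.card F - 1 := by
      have := FiniteField.odd_card_of_char_ne_two hchar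
      omega
    refine (Elusive.Linear.exists_nonsplit_scalar_iff (F := F) hdvd hs (by omega)).mp
      ⟨z, hsq', by rw [← hd, hdet]⟩ ⟨hv, fun _ _ => ?_⟩
    have hq' := FiniteField.odd_card_of_char_ne_two hchar
    rw [hF, ← Nat.odd_iff, Nat.odd_pow_iff two_ne_zero] at hq'
    obtain ⟨m, hm⟩ := hq'
    rw [hF, hm, show (2 * m + 1) ^ 2 = 1 + 4 * (m * m + m) by ring, Nat.add_mul_mod_self_left]
  have hμ0 : μ ≠ 0 := fun h => hz0 (by rw [← hμ, h, mul_zero])
  have hne : μ ≠ -μ := fun h => hμ0 (by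
    have h' : (2 : F) * μ = 0 := by linear_combination h
    exact (mul_eq_zero.mp h').resolve_left h2)
  have hprod : (g - μ • 1) * (g - (-μ) • 1) = 0 := by
    refine LinearMap.ext fun u => ?_
    have hff : g (g u) = z • u := by
      have := LinearMap.congr_fun hz u
      rwa [pow_two, Module.End.mul_apply, LinearMap.smul_apply, Module.End.one_apply] at this
    simp only [Module.End.mul_apply, LinearMap.sub_apply, LinearMap.smul_apply,
      Module.End.one_apply, LinearMap.zero_apply, map_sub, map_smul, hff, ← hμ]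
    module
  have hIC := SingerNorm.isCompl_eigenspace g hne hprod
  let bP := Module.finBasis F (End.eigenspace g μ)
  let bM := Module.finBasis F (End.eigenspace g (-μ))
  let bb := (bP.prod bM).map (Submodule.prodEquivOfIsCompl _ _ hIC)
  let σ := Fintype.equivFinOfCardEq ((finrank_eq_card_basis bb).symm.trans (finrank_fin_fun F))
  let w : Fin n → F := fun i => Sum.elim (fun _ => μ) (fun _ => -μ) (σ.symm i)
  have hb : ∀ i, g (bb.reindex σ i) = w i • bb.reindex σ i := fun i => by
    rw [Basis.reindex_apply]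
    rcases h : σ.symm i with j | j <;> simp only [w, h, Sum.elim_inl, Sum.elim_inr]
    · rw [show bb (Sum.inl j) = (bP j : Fin n → F) by simp [bb]]
      exact End.mem_eigenspace_iff.mp (bP j).2
    · rw [show bb (Sum.inr j) = (bM j : Fin n → F) by simp [bb]]
      exact End.mem_eigenspace_iff.mp (bM j).2
  obtain ⟨e, he⟩ := exists_onb hF hf
  let y : Module.End F (Fin n → F) := e.constr F fun i => w i • e i
  refine exists_conj_diag x (bb.reindex σ) e ⟨0, hn⟩ w hb y (fun i => e.constr_basis F _ i)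
    (pow_ne_zero (q₀ + 1) hμ0) (simil_of_basis hF hf e y _ fun i j => ?_)
  simp only [y, e.constr_basis, hf.smul_left, smul_right hF hf, he]
  rcases eq_or_ne i j with rfl | hij
  · rw [if_pos rfl, mul_one, mul_one, ← pow_succ']
    rcases h : σ.symm i with k | k <;> simp only [w, h, Sum.elim_inl, Sum.elim_inr]
    have : Odd q₀ := by
      have h' := FiniteField.odd_card_of_char_ne_two hchar
      rw [hF, ← Nat.odd_iff, Nat.odd_pow_iff two_ne_zero] at h'
      exact h'
    rw [neg_pow, this.add_one.neg_one_pow, one_mul]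
  · rw [if_neg hij, mul_zero, mul_zero, mul_zero]

/-- Involutions modulo scalars in characteristic two. -/
theorem fix_two_even [CharP F 2] (hn : 0 < n)
    (x : GL (Fin n) F) (hxs : x ∈ Cfsg.Geo.specialLinear (Fin n) F) {z : F}
    (hz : ((x ^ 2 : GL (Fin n) F) : Matrix (Fin n) (Fin n) F) = z • (1 : Matrix (Fin n) (Fin n) F)) :
    ∃ g ∈ Cfsg.Geo.specialLinear (Fin n) F, g⁻¹ * x * g ∈ Cfsg.Geo.similarityGroup f := by
  classical
  have h2 : (2 : F) = 0 := CharP.cast_eq_zero F 2
  have hchar : ringChar F = 2 := ringChar.eq F 2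
  set g := Matrix.toLin' (x : Matrix (Fin n) (Fin n) F) with hg
  rw [Elusive.Linear.eq_smul_one_iff, coe_pow_toLin, ← hg] at hz
  have hdet : LinearMap.det g = 1 := by
    rw [hg, LinearMap.det_toLin']
    exact congrArg Units.val hxs
  obtain ⟨μ, hμ⟩ := FiniteField.isSquare_of_char_two hchar z
  have hμ0 : μ ≠ 0 := fun h => by
    have h1 := congrArg LinearMap.det hz
    rw [map_pow, hdet, one_pow, hμ, h, mul_zero, LinearMap.det_smul, zero_pow (by simp; omega), zero_mul] at h1
    exact one_ne_zero h1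
  have hgg : ∀ v, g (g v) = (μ * μ) • v := fun v => by
    have := LinearMap.congr_fun hz v
    rwa [pow_two, Module.End.mul_apply, LinearMap.smul_apply, Module.End.one_apply, hμ] at this
  set N : Module.End F (Fin n → F) := g - μ • 1 with hN
  have hNa : ∀ v, g v = N v + μ • v := fun v => by simp [hN]
  have hNN : ∀ v, N (N v) = 0 := fun v => by
    simp only [hN, LinearMap.sub_apply, LinearMap.smul_apply, Module.End.one_apply, map_sub, map_smul, hgg]
    match_scalars
    · linear_combination (μ * μ) * h2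
    · linear_combination (-μ) * h2
  -- a complement of the kernel, and of the image inside the kernel
  obtain ⟨W, hW⟩ := Submodule.exists_isCompl (LinearMap.ker N)
  have hRK : LinearMap.range N ≤ LinearMap.ker N := by
    rintro _ ⟨v, rfl⟩
    exact hNN v
  obtain ⟨C, hC⟩ := Submodule.exists_isCompl ((LinearMap.range N).comap (LinearMap.ker N).subtype)
  haveI : Module.Free F C := Module.Free.of_divisionRing F C
  let bW := Module.finBasis F W
  let bC := Module.finBasis F C
  set a := finrank F W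
  set c := finrank F C
  let G : (Fin a ⊕ Fin a) ⊕ Fin c → (Fin n → F) :=
    Sum.elim (Sum.elim (fun k => (bW k : Fin n → F)) (fun k => N (bW k))) (fun k => ((bC k : LinearMap.ker N) : Fin n → F))
  have hspan : ⊤ ≤ Submodule.span F (Set.range G) := by
    have hWs : ∀ v ∈ W, v ∈ Submodule.span F (Set.range G) := fun v hv => by
      have h := congrArg (Submodule.subtype W) (bW.sum_repr ⟨v, hv⟩)
      rw [map_sum] at h
      rw [show v = _ from h.symm]
      exact Submodule.sum_mem _ fun k _ => Submodule.smul_mem _ _ (Submodule.subset_span ⟨.inl (.inl k), rfl⟩)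
    have hNs : ∀ v, N v ∈ Submodule.span F (Set.range G) := fun v => by
      obtain ⟨p, hp, w, hw, rfl⟩ := Submodule.mem_sup.mp (hW.sup_eq_top.ge (Submodule.mem_top (x := v)))
      rw [map_add, LinearMap.mem_ker.mp hp, zero_add]
      have h := congrArg (fun u => N (W.subtype u)) (bW.sum_repr ⟨w, hw⟩)
      simp only [map_sum, map_smul] at h
      rw [show N w = _ from h.symm]
      exact Submodule.sum_mem _ fun k _ => Submodule.smul_mem _ _ (Submodule.subset_span ⟨.inl (.inr k), rfl⟩)
    intro v _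
    obtain ⟨p, hp, w, hw, rfl⟩ := Submodule.mem_sup.mp (hW.sup_eq_top.ge (Submodule.mem_top (x := v)))
    refine Submodule.add_mem _ ?_ (hWs w hw)
    obtain ⟨r, hr, k, hk, hrk⟩ := Submodule.mem_sup.mp (hC.sup_eq_top.ge (Submodule.mem_top (x := (⟨p, hp⟩ : LinearMap.ker N))))
    have hpe : p = (r : Fin n → F) + (k : Fin n → F) := (congrArg Subtype.val hrk).symm
    rw [hpe]
    refine Submodule.add_mem _ ?_ ?_
    · obtain ⟨u, hu⟩ := hr
      rw [← show N u = (r : Fin n → F) from hu]
      exact hNs u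
    · have h := congrArg (fun u : C => ((u : LinearMap.ker N) : Fin n → F)) (bC.sum_repr ⟨k, hk⟩)
      simp only [Submodule.coe_sum, Submodule.coe_smul] at h
      rw [← h]
      exact Submodule.sum_mem _ fun i _ => Submodule.smul_mem _ _ (Submodule.subset_span ⟨.inr i, rfl⟩)
  have hcard : Fintype.card ((Fin a ⊕ Fin a) ⊕ Fin c) = finrank F (Fin n → F) := by
    have h1 := Submodule.finrank_add_eq_of_isCompl hW
    have h2' := Submodule.finrank_add_eq_of_isCompl hC
    rw [(Submodule.comapSubtypeEquivOfLe hRK).finrank_eq] at h2'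
    have h3 := LinearMap.finrank_range_add_finrank_ker N
    simp only [Fintype.card_sum, Fintype.card_fin]
    omega
  let b := basisOfTopLeSpanOfCardEqFinrank G hspan hcard
  have hbG : ⇑b = G := coe_basisOfTopLeSpanOfCardEqFinrank G hspan hcard
  have hgb : ∀ k, g (b (.inl (.inl k))) = b (.inl (.inr k)) + μ • b (.inl (.inl k)) ∧
      g (b (.inl (.inr k))) = μ • b (.inl (.inr k)) := fun k => by
    rw [hbG]
    exact ⟨hNa _, by simp [G, hNa, hNN]⟩
  have hgc : ∀ k, g (b (.inr k)) = μ • b (.inr k) := fun k => by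
    rw [hbG]
    simp [G, hNa, LinearMap.mem_ker.mp (bC k : LinearMap.ker N).2]
  -- the model
  obtain ⟨e₀, he₀⟩ := exists_onb hF hf
  let σ := Fintype.equivFinOfCardEq (hcard.trans (finrank_fin_fun F))
  let E := e₀.reindex σ.symm
  have hE : ∀ i j, f (E i) (E j) = if i = j then 1 else 0 := fun i j => by simp [E, he₀]
  let H : (Fin a ⊕ Fin a) ⊕ Fin c → (Fin n → F) :=
    Sum.elim (Sum.elim (fun k => E (.inl (.inl k))) (fun k => μ • (E (.inl (.inl k)) + E (.inl (.inr k)))))
      (fun k => E (.inr k))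
  have hspan' : ⊤ ≤ Submodule.span F (Set.range H) := by
    rw [← E.span_eq, Submodule.span_le]
    rintro _ ⟨i, rfl⟩
    rcases i with (k | k) | k
    · exact Submodule.subset_span ⟨.inl (.inl k), rfl⟩
    · rw [show E (.inl (.inr k)) = μ⁻¹ • H (.inl (.inr k)) - H (.inl (.inl k)) by simp [H, smul_smul, hμ0]]
      exact Submodule.sub_mem _ (Submodule.smul_mem _ _ (Submodule.subset_span ⟨_, rfl⟩)) (Submodule.subset_span ⟨_, rfl⟩)
    · exact Submodule.subset_span ⟨.inr k, rfl⟩
  let b' := basisOfTopLeSpanOfCardEqFinrank H hspan' hcard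
  have hbH : ⇑b' = H := coe_basisOfTopLeSpanOfCardEqFinrank H hspan' hcard
  let T : (Fin a ⊕ Fin a) ⊕ Fin c → (Fin n → F) :=
    Sum.elim (Sum.elim (fun k => H (.inl (.inr k)) + μ • H (.inl (.inl k))) (fun k => μ • H (.inl (.inr k))))
      (fun k => μ • H (.inr k))
  let y : Module.End F (Fin n → F) := b'.constr F T
  have hy : ∀ i, y (b' i) = T i := fun i => b'.constr_basis F _ i
  let g₀ : (Fin n → F) ≃ₗ[F] (Fin n → F) := b'.equiv b (Equiv.refl _)
  have hμq : μ ^ q₀ * μ = μ * μ ^ q₀ := mul_comm _ _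
  refine exists_conj x g₀ y (pow_ne_zero (q₀ + 1) hμ0) (simil_of_basis hF hf b' y _ fun i j => ?_) (fun v => ?_)
    fun d hd => ?_
  · rw [hy, hy, hbH]
    have hμσ : μ ^ q₀ + μ ^ q₀ = 0 := by linear_combination μ ^ q₀ * h2
    rcases i with (i | i) | i <;> rcases j with (j | j) | j <;>
      simp only [T, H, Sum.elim_inl, Sum.elim_inr, hf.add_left, add_right hF hf, hf.smul_left,
        smul_right hF hf, hE, Sum.inl.injEq, Sum.inr.injEq, reduceCtorEq, if_false, pow_succ',
        mul_zero, add_zero, zero_add] <;>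
      split_ifs <;> first | ring1 | (ring_nf; simp [h2, show (3 : F) = 1 by linear_combination h2,
        show (5 : F) = 1 by linear_combination 2 * h2, show (4 : F) = 0 by linear_combination 2 * h2])
  · refine LinearMap.congr_fun (b'.ext (f₁ := g.comp g₀.toLinearMap) (f₂ := g₀.toLinearMap.comp y) fun i => ?_) v
    simp only [LinearMap.comp_apply, LinearEquiv.coe_coe, g₀, Basis.equiv_apply, Equiv.refl_apply, hy]
    rcases i with (i | i) | i <;>
      simp only [T, Sum.elim_inl, Sum.elim_inr, ← hbH, map_add, map_smul, Basis.equiv_apply, Equiv.refl_apply,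
        (hgb _).1, (hgb _).2, hgc]
  · obtain ⟨u, hu, hud⟩ : ∃ u : (Fin a ⊕ Fin a) ⊕ Fin c → F,
        (∀ k, u (.inl (.inl k)) = u (.inl (.inr k))) ∧ ∏ i, u i = d := by
      by_cases hc0 : 0 < c
      · refine ⟨Function.update (fun _ => 1) (.inr ⟨0, hc0⟩) d, fun k => ?_, ?_⟩
        · simp
        · rw [Finset.prod_eq_single (.inr ⟨0, hc0⟩) (fun i _ hi => by simp [hi]) (by simp)]
          simp
      · obtain ⟨t, ht⟩ := FiniteField.isSquare_of_char_two hchar d
        have ha : 0 < a := by
          rw [Fintype.card_sum, Fintype.card_sum, Fintype.card_fin, Fintype.card_fin, finrank_fin_fun] at hcard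
          omega
        let s : Fin a → F := Function.update (fun _ => 1) ⟨0, ha⟩ t
        refine ⟨Sum.elim (Sum.elim s s) (fun _ => 1), fun k => rfl, ?_⟩
        rw [Fintype.prod_sum_type, Fintype.prod_sum_type]
        simp only [Sum.elim_inl, Sum.elim_inr, Finset.prod_const_one, mul_one]
        rw [Finset.prod_eq_single (⟨0, ha⟩ : Fin a) (fun i _ hi => by simp [s, hi]) (by simp), ht]
        simp [s]
    let k : Module.End F (Fin n → F) := Matrix.toLin b b (Matrix.diagonal u)
    have hk : ∀ i, k (b i) = u i • b i := fun i => by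
      rw [Matrix.toLin_self, Finset.sum_eq_single i]
      · simp
      · intro j _ hj; simp [Matrix.diagonal_apply_ne _ hj]
      · simp
    refine ⟨k, b.ext fun i => ?_, by rw [LinearMap.det_toLin, Matrix.det_diagonal, hud]⟩
    rcases i with (i | i) | i <;>
      simp only [← hg, Module.End.mul_apply, hk, map_add, map_smul, (hgb _).1, (hgb _).2, hgc, smul_add,
        smul_smul, hu, mul_comm]

/-- The exceptional cases. -/
theorem fix_exc {r : ℕ} [hr : Fact r.Prime] (h35 : r = 3 ∨ r = 5) (hnr : n = r) (hrF : (r : F) ≠ 0)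
    (hv : padicValNat r (q₀ - 1) = 1) (x : GL (Fin n) F)
    (hxs : x ∈ Cfsg.Geo.specialLinear (Fin n) F) {z : F}
    (hz : ((x ^ r : GL (Fin n) F) : Matrix (Fin n) (Fin n) F) = z • (1 : Matrix (Fin n) (Fin n) F)) :
    ∃ g ∈ Cfsg.Geo.specialLinear (Fin n) F, g⁻¹ * x * g ∈ Cfsg.Geo.similarityGroup f := by
  classical
  subst hnr
  have hn3 : 3 ≤ n := by omega
  haveI : Nonempty (Fin n) := ⟨⟨0, by omega⟩⟩
  have hq1 : 1 < q₀ := Unitary.one_lt_q hF
  have hdq : n ∣ q₀ - 1 := dvd_of_one_le_padicValNat hv.ge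
  have hsplit : Fintype.card F - 1 = (q₀ + 1) * (q₀ - 1) := by
    have h := Nat.sq_sub_sq q₀ 1
    rw [one_pow] at h
    rw [hF, h]
  have hdvd : n ∣ Fintype.card F - 1 := hsplit ▸ hdq.mul_left _
  have hv' : padicValNat n (Fintype.card F - 1) = 1 := by
    have h1 : ¬ n ∣ q₀ + 1 := fun h => by
      have h' := Nat.dvd_sub h hdq
      rw [show q₀ + 1 - (q₀ - 1) = 2 by omega] at h'
      have := Nat.le_of_dvd two_pos h'
      omega
    rw [hsplit, padicValNat.mul (by omega) (by omega), padicValNat.eq_zero_of_not_dvd h1, hv]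
  obtain ⟨u, hu⟩ := exists_prime_orderOf_dvd_card n (show n ∣ Fintype.card Fˣ by rwa [Fintype.card_units])
  have hζ : IsPrimitiveRoot (u : F) n := by
    rw [IsPrimitiveRoot.coe_units_iff, ← hu]; exact IsPrimitiveRoot.orderOf u
  have hufix : (u : F) ^ q₀ = u := by
    obtain ⟨k, hk⟩ := hdq
    conv_lhs => rw [show q₀ = n * k + 1 by omega, pow_succ, pow_mul, hζ.pow_eq_one, one_pow, one_mul]
  set g := Matrix.toLin' (x : Matrix (Fin n) (Fin n) F) with hg
  rw [Elusive.Linear.eq_smul_one_iff, coe_pow_toLin, ← hg] at hz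
  have hdet : LinearMap.det g = 1 := by
    rw [hg, LinearMap.det_toLin']
    exact congrArg Units.val hxs
  have hzn : z ^ n = 1 := by
    have h1 := congrArg LinearMap.det hz
    rw [map_pow, hdet, one_pow, LinearMap.det_smul, map_one, mul_one, finrank_fin_fun] at h1
    exact h1.symm
  have hpow : ∃ c : F, c ^ n = z := by
    by_contra hc
    push Not at hc
    obtain ⟨s, hs, hd⟩ := Elusive.nonsplit_det hc hz
    rw [finrank_fin_fun] at hs
    have hs1 : s = 1 := (Nat.mul_eq_left (by omega)).mp hs.symm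
    have hodd : Odd n := hr.out.odd_of_ne_two (by omega)
    rw [hdet, hs1, pow_one, hodd.add_one.neg_one_pow, one_mul] at hd
    exact hc 1 (by rw [one_pow]; exact hd)
  obtain ⟨c, hc⟩ := hpow
  have hz1 : z = 1 := by
    have hc0 : c ≠ 0 := fun h => by
      rw [← hc, h, zero_pow (by omega), zero_pow (by omega)] at hzn
      exact zero_ne_one hzn
    have h1 : orderOf c ∣ n ^ 2 := orderOf_dvd_of_pow_eq_one (by rw [pow_two, pow_mul, hc, hzn])
    have h2 : orderOf c ∣ Fintype.card F - 1 :=
      orderOf_dvd_of_pow_eq_one (FiniteField.pow_card_sub_one_eq_one c hc0)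
    obtain ⟨k, hk, hko⟩ := (Nat.dvd_prime_pow hr.out).mp h1
    have hk1 : k ≤ 1 := by
      rw [hko] at h2
      have hq1 : 1 < Fintype.card F := Fintype.one_lt_card
      have := (padicValNat_dvd_iff_le (p := n) (by omega)).mp h2
      omega
    rw [← hc]
    exact orderOf_dvd_iff_pow_eq_one.mp (hko ▸ (pow_dvd_pow n hk1).trans (pow_one n).dvd)
  rw [hz1, one_smul] at hz
  obtain ⟨b, a, hab⟩ := ElusiveOrth.exists_eigenbasis hrF hζ g hz
  let w : Fin n → F := fun i => (u : F) ^ (a i).val
  have hwfix : ∀ i, w i ^ q₀ = w i := fun i => by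
    simp only [w]; rw [← pow_mul, mul_comm, pow_mul, hufix]
  have hsum : ∑ i, a i = 0 := by
    have h1 : g = Matrix.toLin b b (Matrix.diagonal w) := b.ext fun i => by
      rw [hab, Matrix.toLin_self, Finset.sum_eq_single i]
      · simp [w]
      · intro j _ hj; simp [Matrix.diagonal_apply_ne _ hj]
      · simp
    rw [h1, LinearMap.det_toLin, Matrix.det_diagonal] at hdet
    simp only [w, Finset.prod_pow_eq_pow_sum] at hdet
    have h2 := (hζ.pow_eq_one_iff_dvd _).mp hdet
    rw [← ZMod.natCast_eq_zero_iff, Nat.cast_sum] at h2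
    simpa using h2
  have hval : ∀ i j k, a i + a j = 2 * a k → w i * w j = w k * w k := fun i j k h => by
    simp only [w, ← pow_add]
    rw [← pow_mod_orderOf, ← pow_mod_orderOf _ ((a k).val + (a k).val), ← hζ.eq_orderOf]
    congr 1
    rw [← ZMod.val_add, ← ZMod.val_add, h, two_mul]
  obtain ⟨m, σ, hm, hp⟩ : ∃ (m : ℕ) (σ : (Fin m ⊕ Fin m) ⊕ Unit ≃ Fin n), 2 * m + 1 = n ∧
      ∀ k, w (σ (.inl (.inl k))) * w (σ (.inl (.inr k))) = w (σ (.inr ())) * w (σ (.inr ())) := by
    rcases h35 with rfl | rfl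
    · let σ : (Fin 1 ⊕ Fin 1) ⊕ Unit ≃ Fin 3 :=
        { toFun := Sum.elim (Sum.elim (fun _ => 0) (fun _ => 1)) (fun _ => 2)
          invFun := ![.inl (.inl 0), .inl (.inr 0), .inr ()]
          left_inv := by rintro ((i | i) | ⟨⟩) <;> simp [Fin.fin_one_eq_zero]
          right_inv := by intro i; fin_cases i <;> rfl }
      refine ⟨1, σ, rfl, fun k => hval 0 1 2 ?_⟩
      rw [Fin.sum_univ_three] at hsum
      have h3 : (3 : ZMod 3) = 0 := by exact_mod_cast ZMod.natCast_self 3
      linear_combination hsum - a 2 * h3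
    · obtain ⟨π, h12, h34⟩ := ElusiveOrth.pairing_five a hsum
      let σ₀ : (Fin 2 ⊕ Fin 2) ⊕ Unit ≃ Fin 5 :=
        { toFun := Sum.elim (Sum.elim ![1, 3] ![2, 4]) (fun _ => 0)
          invFun := ![.inr (), .inl (.inl 0), .inl (.inr 0), .inl (.inl 1), .inl (.inr 1)]
          left_inv := by rintro ((i | i) | ⟨⟩) <;> first | rfl | (fin_cases i <;> rfl)
          right_inv := by intro i; fin_cases i <;> rfl }
      refine ⟨2, σ₀.trans π, rfl, fun k => ?_⟩
      fin_cases k
      · exact hval _ _ _ h12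
      · exact hval _ _ _ h34
  -- pairs of isotropic vectors and one more
  obtain ⟨α, hα⟩ := Unitary.norm_surj hF (y := (-1 : F)) (by rw [Unitary.neg_pow_q hF, one_pow])
  haveI : Nontrivial {t : F // t ^ (q₀ + 1) = 1} := by
    rw [← Finite.one_lt_card_iff_nontrivial, Unitary.card_norm_one hF]; omega
  obtain ⟨⟨ε, hε⟩, hε1⟩ := exists_ne (⟨1, one_pow _⟩ : {t : F // t ^ (q₀ + 1) = 1})
  have hε1' : ε ≠ 1 := fun h => hε1 (Subtype.ext h)
  have hα0 : α ≠ 0 := fun h => by rw [h, zero_mul] at hα; exact neg_ne_zero.mpr one_ne_zero hα.symm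
  set β := α * ε with hβ
  have hβn : β * β ^ q₀ = -1 := by
    rw [hβ, mul_pow, mul_mul_mul_comm, hα, ← pow_succ', hε, mul_one]
  have hαβ : α - β ≠ 0 := sub_ne_zero.mpr fun h => hε1' (by
    rw [hβ, eq_comm, mul_eq_left₀ hα0] at h; exact h)
  obtain ⟨e₀, he₀⟩ := exists_onb hF hf
  let E := e₀.reindex σ.symm
  have hE : ∀ i j, f (E i) (E j) = if i = j then 1 else 0 := fun i j => by simp [E, he₀]
  let H : (Fin m ⊕ Fin m) ⊕ Unit → (Fin n → F) :=
    Sum.elim (Sum.elim (fun k => E (.inl (.inl k)) + α • E (.inl (.inr k)))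
      (fun k => E (.inl (.inl k)) + β • E (.inl (.inr k)))) (fun k => E (.inr k))
  have hspan : ⊤ ≤ Submodule.span F (Set.range H) := by
    rw [← E.span_eq, Submodule.span_le]
    rintro _ ⟨i, rfl⟩
    have hm' : ∀ j, H j ∈ Submodule.span F (Set.range H) := fun j => Submodule.subset_span ⟨j, rfl⟩
    rcases i with (k | k) | k
    · rw [show E (.inl (.inl k)) = (α - β)⁻¹ • (α • H (.inl (.inr k)) - β • H (.inl (.inl k))) by
        rw [show α • H (.inl (.inr k)) - β • H (.inl (.inl k)) = (α - β) • E (.inl (.inl k)) by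
          simp only [H, Sum.elim_inl, Sum.elim_inr]; module, inv_smul_smul₀ hαβ]]
      exact Submodule.smul_mem _ _ (Submodule.sub_mem _ (Submodule.smul_mem _ _ (hm' _)) (Submodule.smul_mem _ _ (hm' _)))
    · rw [show E (.inl (.inr k)) = (α - β)⁻¹ • (H (.inl (.inl k)) - H (.inl (.inr k))) by
        rw [show H (.inl (.inl k)) - H (.inl (.inr k)) = (α - β) • E (.inl (.inr k)) by
          simp only [H, Sum.elim_inl, Sum.elim_inr]; module, inv_smul_smul₀ hαβ]]
      exact Submodule.smul_mem _ _ (Submodule.sub_mem _ (hm' _) (hm' _))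
    · exact hm' (.inr k)
  have hcard : Fintype.card ((Fin m ⊕ Fin m) ⊕ Unit) = finrank F (Fin n → F) := by
    simp; omega
  let b' := basisOfTopLeSpanOfCardEqFinrank H hspan hcard
  have hbH : ⇑b' = H := coe_basisOfTopLeSpanOfCardEqFinrank H hspan hcard
  let y : Module.End F (Fin n → F) := b'.constr F fun i => w (σ i) • b' i
  have hw0 : ∀ i, w i ≠ 0 := fun i => pow_ne_zero _ u.ne_zero
  refine exists_conj_diag x (b.reindex σ.symm) b' (.inr ()) (fun i => w (σ i))
    (fun i => by rw [Basis.reindex_apply, Equiv.symm_symm]; exact hab _) y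
    (fun i => b'.constr_basis F _ i) (mul_ne_zero (hw0 (σ (.inr ()))) (hw0 (σ (.inr ()))))
    (simil_of_basis hF hf b' y _ fun i j => ?_)
  simp only [y, b'.constr_basis, hf.smul_left, smul_right hF hf, hwfix]
  rw [← mul_assoc]
  suffices h : w (σ i) * w (σ j) = w (σ (.inr ())) * w (σ (.inr ())) ∨ f (b' i) (b' j) = 0 by
    rcases h with h | h <;> rw [h] <;> ring
  rw [hbH]
  rcases i with (i | i) | i <;> rcases j with (j | j) | j
  all_goals (try exact Or.inl rfl)
  all_goals simp only [H, Sum.elim_inl, Sum.elim_inr, hf.add_left, add_right hF hf, hf.smul_left,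
    smul_right hF hf, hE, Sum.inl.injEq, Sum.inr.injEq, reduceCtorEq, if_false, mul_zero, add_zero,
    zero_add]
  all_goals (try exact Or.inr rfl)
  all_goals first
    | (right; simp; done)
    | (rcases eq_or_ne i j with rfl | hij
       · first
          | exact Or.inl (hp i)
          | exact Or.inl ((mul_comm _ _).trans (hp i))
          | (right; simp only [if_true, mul_one]; linear_combination hα)
          | (right; simp only [if_true, mul_one]; linear_combination hβn)
       · right; simp [hij, Ne.symm hij])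

end Cfsg.Agent.Lib.ElusiveUnit
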