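import Mathlib
import Cfsg.Prelude.Def_GeometricClasses
import Cfsg.Agent.Lib.Unitary.Basic
import Cfsg.Agent.Lib.Unitary.Witt
import Cfsg.Agent.Lib.Unitary.Order

/-!
Pairs of complementary totally singular subspaces of a unitary space: frames, the Levi subgroup,
transitivity of the special unitary group, and eigenspaces of elements fixing or swapping a pair.
Owner: helper86.
-/

set_option autoImplicit false

namespace Cfsg.Agent.Lib.ElusiveUnit.PolarPair

open Matrix Module
open Cfsg.Agent.Lib.Unitary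

variable {F : Type*} [Field F] [Fintype F] {q n m : ℕ}

/-- Two totally singular subspaces of half dimension spanning the space. -/
structure IsPair (q m : ℕ) (W : Fin 2 → Submodule F (Fin n → F)) : Prop where
  ts : ∀ i, Cfsg.Geo.IsTotallySingularFor (hermForm n F q) (W i)
  dim : ∀ i, finrank F (W i) = m
  sup : W 0 ⊔ W 1 = ⊤

omit [Fintype F] in
theorem IsPair.inf_eq_bot {W : Fin 2 → Submodule F (Fin n → F)} (hm : n = 2 * m)
    (hW : IsPair q m W) : W 0 ⊓ W 1 = ⊥ := by
  have h := Submodule.finrank_sup_add_finrank_inf_eq (W 0) (W 1)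
  rw [hW.sup, finrank_top, finrank_fin_fun, hW.dim, hW.dim] at h
  exact Submodule.finrank_eq_zero.mp (by omega)

omit [Fintype F] in
theorem isPair_of_decomp {D : Fin 2 → Submodule F (Fin n → F)}
    (hD : Cfsg.Geo.IsMDecomposition m D)
    (hDs : ∀ i, Cfsg.Geo.IsTotallySingularFor (hermForm n F q) (D i)) : IsPair q m D := by
  refine ⟨hDs, hD.finrank_eq, eq_top_iff.mpr ?_⟩
  rw [← hD.iSup_eq_top]
  exact iSup_le fun i => by fin_cases i; exacts [le_sup_left, le_sup_right]

theorem finrank_ts_le (hF : Fintype.card F = q ^ 2) {W : Submodule F (Fin n → F)}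
    (hW : Cfsg.Geo.IsTotallySingularFor (hermForm n F q) W) : 2 * finrank F W ≤ n := by
  have h1 : W ≤ perp q W := fun u hu v hv => hW u hu v hv
  have h2 := Submodule.finrank_mono h1
  have h3 := finrank_perp hF W
  omega

theorem isPair_of_sup (hF : Fintype.card F = q ^ 2) (hm : n = 2 * m)
    {W : Fin 2 → Submodule F (Fin n → F)}
    (hts : ∀ i, Cfsg.Geo.IsTotallySingularFor (hermForm n F q) (W i))
    (hsup : W 0 ⊔ W 1 = ⊤) : IsPair q m W := by
  have h := Submodule.finrank_sup_add_finrank_inf_eq (W 0) (W 1)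
  rw [hsup, finrank_top, finrank_fin_fun] at h
  have h0 := finrank_ts_le hF (hts 0)
  have h1 := finrank_ts_le hF (hts 1)
  refine ⟨hts, fun i => ?_, hsup⟩
  obtain rfl | rfl : i = 0 ∨ i = 1 := by omega
  all_goals omega

/-! ### Frames -/

/-- Dual bases of the two members of a pair. -/
theorem exists_frame (hF : Fintype.card F = q ^ 2) (hm : n = 2 * m)
    {W : Fin 2 → Submodule F (Fin n → F)} (hW : IsPair q m W) :
    ∃ b : Basis (Fin m ⊕ Fin m) F (Fin n → F),
      (∀ i, b (.inl i) ∈ W 0) ∧ (∀ i, b (.inr i) ∈ W 1) ∧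
      ∀ i j, hermForm n F q (b (.inl i)) (b (.inl j)) = 0 ∧
        hermForm n F q (b (.inr i)) (b (.inr j)) = 0 ∧
        hermForm n F q (b (.inr j)) (b (.inl i)) = (if j = i then 1 else 0) ∧
        hermForm n F q (b (.inl i)) (b (.inr j)) = (if i = j then 1 else 0) := by
  classical
  let e := Module.finBasisOfFinrankEq F (W 0) (hW.dim 0)
  let u : Fin m → Fin n → F := fun i => (e i : Fin n → F)
  have hu : LinearIndependent F u :=
    e.linearIndependent.map' (W 0).subtype (Submodule.ker_subtype _)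
  have huW : ∀ i, u i ∈ W 0 := fun i => (e i).2
  have hv : ∀ j : Fin m, ∃ v ∈ W 1, ∀ i, hermForm n F q v (u i) = (if j = i then 1 else 0) := by
    intro j
    obtain ⟨w, hw⟩ := pairing_surjective hF hu (fun i => if j = i then 1 else 0)
    have hmem : w ∈ W 0 ⊔ W 1 := by rw [hW.sup]; exact Submodule.mem_top
    obtain ⟨a, ha, c, hc, rfl⟩ := Submodule.mem_sup.mp hmem
    exact ⟨c, hc, fun i => by rw [← hw i, herm_add_left, hW.ts 0 a ha _ (huW i), zero_add]⟩
  choose v hvW hvu using hv
  have hind : LinearIndependent F (Sum.elim u v) := by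
    rw [Fintype.linearIndependent_iff]
    intro g hg
    rw [Fintype.sum_sum_type] at hg
    simp only [Sum.elim_inl, Sum.elim_inr] at hg
    have hr : ∀ i, g (.inr i) = 0 := fun i => by
      have h1 := congrArg (fun w => hermForm n F q w (u i)) hg
      simp only [herm_add_left, herm_sum_left, herm_smul_left, herm_zero_left, hvu,
        hW.ts 0 _ (huW _) _ (huW i), mul_zero, Finset.sum_const_zero, zero_add, mul_ite, mul_one,
        Finset.sum_ite_eq', Finset.mem_univ, if_true] at h1
      exact h1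
    simp only [hr, zero_smul, Finset.sum_const_zero, add_zero] at hg
    have hl := Fintype.linearIndependent_iff.mp hu _ hg
    rintro (i | i)
    exacts [hl i, hr i]
  have hsp : Submodule.span F (Set.range (Sum.elim u v)) = ⊤ :=
    hind.span_eq_top_of_card_eq_finrank' (by simp [hm]; omega)
  refine ⟨Basis.mk hind hsp.ge, fun i => ?_, fun i => ?_, fun i j => ?_⟩
  · simpa using huW i
  · simpa using hvW i
  · simp only [Basis.mk_apply, Sum.elim_inl, Sum.elim_inr]
    refine ⟨hW.ts 0 _ (huW i) _ (huW j), hW.ts 1 _ (hvW i) _ (hvW j), hvu j i, ?_⟩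
    rw [← herm_conj _ _ hF, hvu j i]
    rcases eq_or_ne i j with rfl | hij
    · simp
    · rw [if_neg hij, if_neg (Ne.symm hij), zero_pow_q hF]

/-- The inverse conjugate transpose. -/
def star' (hF : Fintype.card F = q ^ 2) (A : GL (Fin m) F) : Matrix (Fin m) (Fin m) F :=
  ((((A⁻¹ : GL (Fin m) F) : Matrix (Fin m) (Fin m) F)).map (conj hF))ᵀ

/-- `A ↦ diag (A, A⁻*)` as a map into matrices. -/
def blockHom (hF : Fintype.card F = q ^ 2) :
    GL (Fin m) F →* Matrix (Fin m ⊕ Fin m) (Fin m ⊕ Fin m) F where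
  toFun A := Matrix.fromBlocks (A : Matrix (Fin m) (Fin m) F) 0 0 (star' hF A)
  map_one' := by
    simp [star', Matrix.map_one _ (map_zero (conj hF)) (map_one (conj hF)), Matrix.fromBlocks_one]
  map_mul' A B := by
    simp [star', Matrix.fromBlocks_multiply, Matrix.transpose_mul, Matrix.map_mul, _root_.mul_inv_rev]

/-- The Levi subgroup of a frame, as a homomorphism from `GL m`. -/
noncomputable def levi (hF : Fintype.card F = q ^ 2) (b : Basis (Fin m ⊕ Fin m) F (Fin n → F)) :
    GL (Fin m) F →* GL (Fin n) F :=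
  MonoidHom.toHomUnits
    ((LinearMap.toMatrixAlgEquiv' : Module.End F (Fin n → F) ≃ₐ[F] _).toMulEquiv.toMonoidHom.comp
      ((Matrix.toLinAlgEquiv b).toMulEquiv.toMonoidHom.comp (blockHom hF)))

theorem levi_toLin (hF : Fintype.card F = q ^ 2) (b : Basis (Fin m ⊕ Fin m) F (Fin n → F))
    (A : GL (Fin m) F) :
    Matrix.toLin' (levi hF b A : Matrix (Fin n) (Fin n) F) = Matrix.toLin b b (blockHom hF A) := by
  rw [show (levi hF b A : Matrix (Fin n) (Fin n) F) =
    LinearMap.toMatrix' (Matrix.toLin b b (blockHom hF A)) from rfl, Matrix.toLin'_toMatrix']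

theorem levi_inl (hF : Fintype.card F = q ^ 2) (b : Basis (Fin m ⊕ Fin m) F (Fin n → F))
    (A : GL (Fin m) F) (i : Fin m) :
    Matrix.toLin' (levi hF b A : Matrix (Fin n) (Fin n) F) (b (.inl i)) =
      ∑ k, (A : Matrix (Fin m) (Fin m) F) k i • b (.inl k) := by
  rw [levi_toLin, Matrix.toLin_self, Fintype.sum_sum_type]
  simp [blockHom]

theorem levi_inr (hF : Fintype.card F = q ^ 2) (b : Basis (Fin m ⊕ Fin m) F (Fin n → F))
    (A : GL (Fin m) F) (i : Fin m) :
    Matrix.toLin' (levi hF b A : Matrix (Fin n) (Fin n) F) (b (.inr i)) =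
      ∑ k, star' hF A k i • b (.inr k) := by
  rw [levi_toLin, Matrix.toLin_self, Fintype.sum_sum_type]
  simp [blockHom]

theorem levi_injective (hF : Fintype.card F = q ^ 2) (b : Basis (Fin m ⊕ Fin m) F (Fin n → F)) :
    Function.Injective (levi hF b) := by
  intro A B h
  have h1 : Matrix.toLin b b (blockHom hF A) = Matrix.toLin b b (blockHom hF B) := by
    rw [← levi_toLin, ← levi_toLin, h]
  have h2 := congrArg Matrix.toBlocks₁₁ ((Matrix.toLin b b).injective h1)
  exact Units.ext (by simpa [blockHom] using h2)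

theorem levi_det (hF : Fintype.card F = q ^ 2) (b : Basis (Fin m ⊕ Fin m) F (Fin n → F))
    (A : GL (Fin m) F) :
    (levi hF b A : Matrix (Fin n) (Fin n) F).det =
      (A : Matrix (Fin m) (Fin m) F).det * (((A : Matrix (Fin m) (Fin m) F).det) ^ q)⁻¹ := by
  rw [← LinearMap.det_toLin', levi_toLin, LinearMap.det_toLin]
  show (Matrix.fromBlocks _ _ _ _).det = _
  rw [Matrix.det_fromBlocks_zero₂₁, star', Matrix.det_transpose, ← RingHom.mapMatrix_apply,
    ← RingHom.map_det, conj_apply, Matrix.coe_units_inv, Matrix.det_nonsing_inv,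
    Ring.inverse_eq_inv', inv_pow]

/-- A frame: a basis with the standard hyperbolic Gram matrix. -/
def IsFrame (q : ℕ) (b : Basis (Fin m ⊕ Fin m) F (Fin n → F)) : Prop :=
  ∀ i j, hermForm n F q (b (.inl i)) (b (.inl j)) = 0 ∧
    hermForm n F q (b (.inr i)) (b (.inr j)) = 0 ∧
    hermForm n F q (b (.inr j)) (b (.inl i)) = (if j = i then 1 else 0) ∧
    hermForm n F q (b (.inl i)) (b (.inr j)) = (if i = j then 1 else 0)

theorem levi_mem_GU (hF : Fintype.card F = q ^ 2) {b : Basis (Fin m ⊕ Fin m) F (Fin n → F)}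
    (hb : IsFrame q b) (A : GL (Fin m) F) : levi hF b A ∈ GU n F q := by
  classical
  have key : ∀ s t, hermForm n F q
      (Matrix.toLin' (levi hF b A : Matrix (Fin n) (Fin n) F) (b s))
      (Matrix.toLin' (levi hF b A : Matrix (Fin n) (Fin n) F) (b t)) =
        hermForm n F q (b s) (b t) := by
    have hC : ∀ i j, ∑ k, (A : Matrix (Fin m) (Fin m) F) k i * star' hF A k j ^ q =
        if j = i then 1 else 0 := by
      intro i j
      have h1 : (((A⁻¹ : GL (Fin m) F) : Matrix (Fin m) (Fin m) F) *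
          (A : Matrix (Fin m) (Fin m) F)) j i = (1 : Matrix (Fin m) (Fin m) F) j i := by
        rw [← Units.val_mul, inv_mul_cancel, Units.val_one]
      rw [Matrix.mul_apply, Matrix.one_apply] at h1
      rw [← h1]
      refine Finset.sum_congr rfl fun k _ => ?_
      simp [star', pow_q_q hF, mul_comm]
    rintro (i | i) (j | j)
    · rw [levi_inl, levi_inl, herm_sum_sum hF, (hb i j).1]
      simp [(hb _ _).1]
    · rw [levi_inl, levi_inr, herm_sum_left, (hb i j).2.2.2]
      simp only [herm_smul_left, herm_sum_right _ hF, herm_smul_right, (hb _ _).2.2.2, mul_ite,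
        mul_one, mul_zero, Finset.sum_ite_eq, Finset.mem_univ, if_true]
      refine ((Finset.sum_congr rfl fun k _ => ?_).trans (hC i j)).trans (by simp [eq_comm])
      ring
    · rw [levi_inl, levi_inr, herm_sum_left, (hb j i).2.2.1]
      simp only [herm_smul_left, herm_sum_right _ hF, herm_smul_right, (hb _ _).2.2.1, mul_ite,
        mul_one, mul_zero, Finset.sum_ite_eq, Finset.mem_univ, if_true]
      have h2 := congrArg (fun z => z ^ q) (hC j i)
      simp only [sum_pow_q hF, mul_pow, pow_q_q hF] at h2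
      refine ((Finset.sum_congr rfl fun k _ => ?_).trans h2).trans ?_
      · ring
      · split_ifs <;> simp [zero_pow_q hF]
    · rw [levi_inr, levi_inr, herm_sum_sum hF, (hb i j).2.1]
      simp [(hb _ _).2.1]
  intro u w
  show hermForm n F q ((levi hF b A : Matrix (Fin n) (Fin n) F) *ᵥ u)
    ((levi hF b A : Matrix (Fin n) (Fin n) F) *ᵥ w) = _
  rw [← Matrix.toLin'_apply, ← Matrix.toLin'_apply, ← b.sum_repr u, ← b.sum_repr w, map_sum,
    map_sum]
  simp only [map_smul]
  rw [herm_sum_sum hF, herm_sum_sum hF]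
  simp only [key]

omit [Fintype F] in
/-- Invariant subspaces of an invertible matrix. -/
theorem map_eq_of_le {W : Submodule F (Fin n → F)} (g : GL (Fin n) F)
    (h : ∀ u ∈ W, Matrix.toLin' (g : Matrix (Fin n) (Fin n) F) u ∈ W) :
    W.map (Matrix.toLin' (g : Matrix (Fin n) (Fin n) F)) = W := by
  refine Submodule.eq_of_le_of_finrank_eq (Submodule.map_le_iff_le_comap.mpr fun u hu => h u hu) ?_
  have hinj : Function.Injective (Matrix.toLin' (g : Matrix (Fin n) (Fin n) F)) :=
    Matrix.mulVec_injective_of_isUnit g.isUnit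
  exact (Submodule.equivMapOfInjective _ hinj W).finrank_eq.symm

omit [Fintype F] in
theorem eq_span {W : Submodule F (Fin n → F)} {u : Fin m → Fin n → F}
    (hu : LinearIndependent F u) (huW : ∀ i, u i ∈ W) (hW : finrank F W = m) :
    Submodule.span F (Set.range u) = W :=
  Submodule.eq_of_le_of_finrank_eq (Submodule.span_le.mpr (by rintro _ ⟨i, rfl⟩; exact huW i))
    (by rw [finrank_span_eq_card hu, Fintype.card_fin, hW])

theorem levi_fix (hF : Fintype.card F = q ^ 2) {W : Fin 2 → Submodule F (Fin n → F)}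
    (hW : IsPair q m W) {b : Basis (Fin m ⊕ Fin m) F (Fin n → F)} (h0 : ∀ i, b (.inl i) ∈ W 0)
    (h1 : ∀ i, b (.inr i) ∈ W 1) (A : GL (Fin m) F) (k : Fin 2) :
    (W k).map (Matrix.toLin' (levi hF b A : Matrix (Fin n) (Fin n) F)) = W k := by
  refine map_eq_of_le _ fun u hu => ?_
  obtain rfl | rfl : k = 0 ∨ k = 1 := by omega
  · have hs := eq_span (b.linearIndependent.comp _ Sum.inl_injective) h0 (hW.dim 0)
    rw [← hs] at hu
    obtain ⟨c, rfl⟩ := (Submodule.mem_span_range_iff_exists_fun F).mp hu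
    rw [map_sum]
    refine Submodule.sum_mem _ fun i _ => ?_
    rw [map_smul, Function.comp_apply, levi_inl]
    exact Submodule.smul_mem _ _ (Submodule.sum_mem _ fun l _ => Submodule.smul_mem _ _ (h0 l))
  · have hs := eq_span (b.linearIndependent.comp _ Sum.inr_injective) h1 (hW.dim 1)
    rw [← hs] at hu
    obtain ⟨c, rfl⟩ := (Submodule.mem_span_range_iff_exists_fun F).mp hu
    rw [map_sum]
    refine Submodule.sum_mem _ fun i _ => ?_
    rw [map_smul, Function.comp_apply, levi_inr]
    exact Submodule.smul_mem _ _ (Submodule.sum_mem _ fun l _ => Submodule.smul_mem _ _ (h1 l))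

/-- `SU` is transitive on pairs. -/
theorem exists_SU_map (hF : Fintype.card F = q ^ 2) (hm : n = 2 * m) (hm0 : 0 < m)
    {D W : Fin 2 → Submodule F (Fin n → F)} (hD : IsPair q m D) (hW : IsPair q m W) :
    ∃ g ∈ GU n F q ⊓ Cfsg.Geo.specialLinear (Fin n) F,
      ∀ k, (D k).map (Matrix.toLin' ((g : GL (Fin n) F) : Matrix (Fin n) (Fin n) F)) = W k := by
  classical
  obtain ⟨b, hb0, hb1, hb⟩ := exists_frame hF hm hD
  obtain ⟨c, hc0, hc1, hc⟩ := exists_frame hF hm hW
  obtain ⟨A, hA⟩ := exists_GU_of_gram hF b.linearIndependent (c := c) (by simp [hm]; omega) (by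
    rintro (i | i) (j | j)
    · rw [(hb i j).1, (hc i j).1]
    · rw [(hb i j).2.2.2, (hc i j).2.2.2]
    · rw [(hb j i).2.2.1, (hc j i).2.2.1]
    · rw [(hb i j).2.1, (hc i j).2.1])
  have hAW : ∀ k, (D k).map (Matrix.toLin' (A.1 : Matrix (Fin n) (Fin n) F)) = W k := by
    refine Fin.forall_fin_two.mpr ⟨?_, ?_⟩
    · rw [← eq_span (b.linearIndependent.comp _ Sum.inl_injective) hb0 (hD.dim 0),
        ← eq_span (c.linearIndependent.comp _ Sum.inl_injective) hc0 (hW.dim 0),
        Submodule.map_span, ← Set.range_comp]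
      exact congrArg (fun s => Submodule.span F (Set.range s)) (funext fun i => hA (.inl i))
    · rw [← eq_span (b.linearIndependent.comp _ Sum.inr_injective) hb1 (hD.dim 1),
        ← eq_span (c.linearIndependent.comp _ Sum.inr_injective) hc1 (hW.dim 1),
        Submodule.map_span, ← Set.range_comp]
      exact congrArg (fun s => Submodule.span F (Set.range s)) (funext fun i => hA (.inr i))
  set d := A.1.1.det with hd
  obtain ⟨a, ha0, ha⟩ := exists_div_conj hF (inv_norm_one hF (det_norm_one hF A))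
  obtain ⟨M, hM⟩ : ∃ M : GL (Fin m) F, (M : Matrix (Fin m) (Fin m) F).det = a := by
    refine ⟨Matrix.GeneralLinearGroup.mkOfDetNeZero
      (Matrix.diagonal (Function.update (fun _ => 1) ⟨0, hm0⟩ a)) ?_, ?_⟩
    · simp [Matrix.det_diagonal, Finset.prod_update_of_mem (Finset.mem_univ _), ha0]
    · show (Matrix.diagonal _).det = a
      simp [Matrix.det_diagonal, Finset.prod_update_of_mem (Finset.mem_univ _)]
  refine ⟨levi hF c M * A.1, ⟨mul_mem (levi_mem_GU hF hc M) A.2, ?_⟩, fun k => ?_⟩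
  · show Matrix.GeneralLinearGroup.det (levi hF c M * A.1) = 1
    ext
    rw [map_mul, Units.val_mul, Units.val_one, Matrix.GeneralLinearGroup.val_det_apply,
      Matrix.GeneralLinearGroup.val_det_apply, levi_det, hM]
    show a * (a ^ q)⁻¹ * d = 1
    have hd0 : d ≠ 0 := det_ne_zero_of_preserving hF A.2
    have haq : a ^ q ≠ 0 := pow_ne_zero _ ha0
    calc a * (a ^ q)⁻¹ * d = (d⁻¹ * a ^ q) * (a ^ q)⁻¹ * d := by rw [← ha]
      _ = 1 := by field_simp
  · rw [Units.val_mul, Matrix.toLin'_mul, Submodule.map_comp, hAW, levi_fix hF hW hc0 hc1]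

/-! ### Elements fixing or swapping a pair -/

theorem ker_le_ker (hF : Fintype.card F = q ^ 2) (hm : n = 2 * m)
    {D0 D1 : Submodule F (Fin n → F)}
    (hts : Cfsg.Geo.IsTotallySingularFor (hermForm n F q) D0)
    (h0 : finrank F D0 = m) (h1 : finrank F D1 = m) (hinf : D0 ⊓ D1 = ⊥)
    {Y : Module.End F (Fin n → F)}
    (hY : ∀ u w, hermForm n F q (Y u) (Y w) = hermForm n F q u w)
    (hD1 : ∀ u ∈ D1, Y u ∈ D1) {μ : F} (hμ : μ * μ ^ q = 1) :
    finrank F ↥(LinearMap.ker (Y - μ • 1) ⊓ D0) ≤ finrank F ↥(LinearMap.ker (Y - μ • 1) ⊓ D1) := by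
  set T := Y - μ • (1 : Module.End F (Fin n → F)) with hT
  have hrel : ∀ u w, hermForm n F q (T u) (Y w) = -μ * hermForm n F q u (T w) := by
    intro u w
    simp only [hT, LinearMap.sub_apply, LinearMap.smul_apply, Module.End.one_apply, herm_sub_left,
      herm_smul_left, hY, herm_sub_right _ _ _ hF, herm_smul_right]
    linear_combination (-hermForm n F q u w) * hμ
  have hle : LinearMap.ker T ⊓ D0 ≤ perp q (D0 ⊔ D1.map T) := by
    rintro u ⟨hu, hu0⟩ w hw
    obtain ⟨a, ha, c, ⟨w', -, rfl⟩, rfl⟩ := Submodule.mem_sup.mp hw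
    rw [herm_add_right _ _ _ hF, hts u hu0 a ha, zero_add]
    have h := hrel u w'
    rw [LinearMap.mem_ker.mp hu, herm_zero_left] at h
    refine (mul_eq_zero.mp h.symm).resolve_left (neg_ne_zero.mpr fun h0 => ?_)
    rw [h0, zero_mul] at hμ
    exact zero_ne_one hμ
  have hk := Submodule.finrank_mono hle
  have hp := finrank_perp hF (D0 ⊔ D1.map T)
  have hTD : D1.map T ≤ D1 := by
    rintro _ ⟨u, hu, rfl⟩
    exact D1.sub_mem (hD1 u hu) (D1.smul_mem μ hu)
  have hdis : D0 ⊓ D1.map T = ⊥ := eq_bot_iff.mpr ((inf_le_inf_left _ hTD).trans hinf.le)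
  have hs := Submodule.finrank_sup_add_finrank_inf_eq D0 (D1.map T)
  rw [hdis, finrank_bot, h0] at hs
  have hr : finrank F ↥(D1.map T) + finrank F ↥(LinearMap.ker T ⊓ D1) = m := by
    have h := (T.domRestrict D1).finrank_range_add_finrank_ker
    rw [LinearMap.range_domRestrict, h1] at h
    rw [← h]
    congr 1
    rw [LinearMap.ker_domRestrict,
      (Submodule.equivMapOfInjective _ D1.injective_subtype _).finrank_eq,
      Submodule.map_comap_subtype, inf_comm]
  omega

/-- An element of the stabiliser of a pair has an even eigenspace for a norm-one value, or it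
interchanges the members and all its eigenspaces are small. -/
theorem ker_of_mem (hF : Fintype.card F = q ^ 2) (hm : n = 2 * m)
    {D : Fin 2 → Submodule F (Fin n → F)} (hD : IsPair q m D) {y : GL (Fin n) F}
    (hy : y ∈ GU n F q) (hyD : y ∈ Cfsg.Geo.decompositionStabilizer D) {μ : F}
    (hμ : μ * μ ^ q = 1) :
    Even (finrank F ↥(LinearMap.ker
        (Matrix.toLin' (y : Matrix (Fin n) (Fin n) F) - μ • 1))) ∨
      (finrank F ↥(LinearMap.ker (Matrix.toLin' (y : Matrix (Fin n) (Fin n) F) - μ • 1)) ≤ m ∧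
        (D 0).map (Matrix.toLin' (y : Matrix (Fin n) (Fin n) F)) = D 1 ∧
        (D 1).map (Matrix.toLin' (y : Matrix (Fin n) (Fin n) F)) = D 0) := by
  obtain ⟨σ, hσ⟩ := hyD
  set Y := Matrix.toLin' (y : Matrix (Fin n) (Fin n) F) with hYdef
  set T := Y - μ • (1 : Module.End F (Fin n → F)) with hT
  have hμ0 : μ ≠ 0 := fun h0 => by rw [h0, zero_mul] at hμ; exact zero_ne_one hμ
  have hinf := hD.inf_eq_bot hm
  have hσ2 : (σ 0 = 0 ∧ σ 1 = 1) ∨ (σ 0 = 1 ∧ σ 1 = 0) := by
    have h01 : σ 0 ≠ σ 1 := fun h => absurd (σ.injective h) (by decide)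
    omega
  rcases hσ2 with ⟨e0, e1⟩ | ⟨e0, e1⟩
  · left
    have hm0 : ∀ u ∈ D 0, Y u ∈ D 0 := fun u hu => by
      have h2 : Y u ∈ (D 0).map Y := Submodule.mem_map_of_mem hu
      rwa [hσ, e0] at h2
    have hm1 : ∀ u ∈ D 1, Y u ∈ D 1 := fun u hu => by
      have h2 : Y u ∈ (D 1).map Y := Submodule.mem_map_of_mem hu
      rwa [hσ, e1] at h2
    have hY : ∀ u w, hermForm n F q (Y u) (Y w) = hermForm n F q u w := hy
    have ha := ker_le_ker hF hm (hD.ts 0) (hD.dim 0) (hD.dim 1) hinf hY hm1 hμ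
    have hb := ker_le_ker hF hm (hD.ts 1) (hD.dim 1) (hD.dim 0) (by rw [inf_comm]; exact hinf)
      hY hm0 hμ
    have hsplit : LinearMap.ker T = (LinearMap.ker T ⊓ D 0) ⊔ (LinearMap.ker T ⊓ D 1) := by
      refine le_antisymm (fun u hu => ?_) (sup_le inf_le_left inf_le_left)
      have hmem : u ∈ D 0 ⊔ D 1 := by rw [hD.sup]; exact Submodule.mem_top
      obtain ⟨a, ha, c, hc, rfl⟩ := Submodule.mem_sup.mp hmem
      rw [LinearMap.mem_ker, map_add] at hu
      have hTa : T a ∈ D 0 := (D 0).sub_mem (hm0 a ha) ((D 0).smul_mem μ ha)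
      have hTc : T c ∈ D 1 := (D 1).sub_mem (hm1 c hc) ((D 1).smul_mem μ hc)
      have h0 : T a = 0 := by
        have : T a ∈ D 0 ⊓ D 1 := ⟨hTa, by rw [eq_neg_of_add_eq_zero_left hu]; exact neg_mem hTc⟩
        rwa [hinf, Submodule.mem_bot] at this
      rw [h0, zero_add] at hu
      exact Submodule.mem_sup.mpr ⟨a, ⟨LinearMap.mem_ker.mpr h0, ha⟩, c,
        ⟨LinearMap.mem_ker.mpr hu, hc⟩, rfl⟩
    have h2 := Submodule.finrank_sup_add_finrank_inf_eq (LinearMap.ker T ⊓ D 0)
      (LinearMap.ker T ⊓ D 1)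
    rw [← hsplit, show LinearMap.ker T ⊓ D 0 ⊓ (LinearMap.ker T ⊓ D 1) = ⊥ from
      eq_bot_iff.mpr ((inf_le_inf inf_le_right inf_le_right).trans hinf.le), finrank_bot,
      add_zero] at h2
    rw [← hT] at ha hb
    exact ⟨finrank F ↥(LinearMap.ker T ⊓ D 0), by omega⟩
  · right
    refine ⟨?_, by rw [hσ, e0], by rw [hσ, e1]⟩
    have hdis : LinearMap.ker T ⊓ D 0 = ⊥ := by
      refine eq_bot_iff.mpr fun u ⟨hu, hu0⟩ => ?_
      rw [SetLike.mem_coe, LinearMap.mem_ker, hT, LinearMap.sub_apply, sub_eq_zero,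
        LinearMap.smul_apply, Module.End.one_apply] at hu
      have h2 : Y u ∈ (D 0).map Y := Submodule.mem_map_of_mem hu0
      rw [hσ, e0, hu] at h2
      have h3 : μ • u ∈ D 0 ⊓ D 1 := ⟨(D 0).smul_mem μ hu0, h2⟩
      rw [hinf, Submodule.mem_bot, smul_eq_zero] at h3
      exact (Submodule.mem_bot F).mpr (h3.resolve_left hμ0)
    have h2 := Submodule.finrank_sup_add_finrank_inf_eq (LinearMap.ker T) (D 0)
    rw [hdis, finrank_bot, hD.dim] at h2
    have h3 := Submodule.finrank_le (LinearMap.ker T ⊔ D 0)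
    rw [finrank_fin_fun] at h3
    omega

/-- An element with an odd eigenspace of a norm-one value has no conjugate in the stabiliser,
provided the eigenspace is large or the element has odd order modulo scalars. -/
theorem no_conj (hF : Fintype.card F = q ^ 2) (hm : n = 2 * m) (hm0 : 0 < m)
    {D : Fin 2 → Submodule F (Fin n → F)} (hD : IsPair q m D) {x g : GL (Fin n) F}
    (hx : x ∈ GU n F q) (hg : g ∈ GU n F q) {μ : F} (hμ : μ * μ ^ q = 1)
    (hodd : Odd (finrank F ↥(LinearMap.ker
        (Matrix.toLin' (x : Matrix (Fin n) (Fin n) F) - μ • 1))))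
    (h : m < finrank F ↥(LinearMap.ker (Matrix.toLin' (x : Matrix (Fin n) (Fin n) F) - μ • 1)) ∨
      ∃ r, Odd r ∧ ∃ z : F, ((x ^ r : GL (Fin n) F) : Matrix (Fin n) (Fin n) F) =
        z • (1 : Matrix (Fin n) (Fin n) F)) :
    g⁻¹ * x * g ∉ Cfsg.Geo.decompositionStabilizer D := by
  intro hmem
  have hyU : g⁻¹ * x * g ∈ GU n F q := mul_mem (mul_mem (inv_mem hg) hx) hg
  set X := Matrix.toLin' (x : Matrix (Fin n) (Fin n) F)
  set G := Matrix.toLin' (g : Matrix (Fin n) (Fin n) F)
  set Y := Matrix.toLin' ((g⁻¹ * x * g : GL (Fin n) F) : Matrix (Fin n) (Fin n) F)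
  have hGY : G.comp Y = X.comp G := by
    rw [← Matrix.toLin'_mul, ← Matrix.toLin'_mul, ← Units.val_mul, ← Units.val_mul]
    congr 2
    group
  have hG : Function.Injective G := Matrix.mulVec_injective_of_isUnit g.isUnit
  have hGs : Function.Surjective G := LinearMap.injective_iff_surjective.mp hG
  have hker : finrank F ↥(LinearMap.ker (Y - μ • 1)) = finrank F ↥(LinearMap.ker (X - μ • 1)) := by
    have hmap : (LinearMap.ker (Y - μ • 1)).map G = LinearMap.ker (X - μ • 1) := by
      ext u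
      obtain ⟨w, rfl⟩ := hGs u
      have hGw : X (G w) = G (Y w) := (LinearMap.congr_fun hGY w).symm
      simp only [Submodule.mem_map, LinearMap.mem_ker, LinearMap.sub_apply, LinearMap.smul_apply,
        Module.End.one_apply, sub_eq_zero, hGw, ← map_smul, hG.eq_iff, exists_eq_right]
    rw [← hmap]
    exact (Submodule.equivMapOfInjective G hG (LinearMap.ker (Y - μ • 1))).finrank_eq
  rcases ker_of_mem hF hm hD hyU hmem hμ with he | ⟨hle, h01, h10⟩
  · rw [hker] at he
    exact Nat.not_even_iff_odd.mpr hodd he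
  · rw [hker] at hle
    obtain ⟨r, ⟨k, rfl⟩, z, hz⟩ := h.resolve_left (not_lt.mpr hle)
    have hpow : ((g⁻¹ * x * g) ^ (2 * k + 1) : GL (Fin n) F) = g⁻¹ * x ^ (2 * k + 1) * g := by
      simpa using (conj_pow (a := g⁻¹) (b := x) (i := 2 * k + 1))
    have hYz : Y ^ (2 * k + 1) = z • (1 : Module.End F (Fin n → F)) := by
      rw [← Matrix.toLin'_pow, ← Units.val_pow_eq_pow_val, hpow, Units.val_mul, Units.val_mul, hz,
        Matrix.mul_smul, mul_one, Matrix.smul_mul, ← Units.val_mul, inv_mul_cancel, Units.val_one,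
        map_smul, Matrix.toLin'_one, Module.End.one_eq_id]
    have hodd' : ∀ k, (D 0).map (Y ^ (2 * k + 1)) = D 1 := by
      intro k
      induction k with
      | zero => rw [mul_zero, zero_add, pow_one]; exact h01
      | succ k ih =>
        rw [show 2 * (k + 1) + 1 = (2 * k + 1) + 1 + 1 by ring, pow_succ', pow_succ',
          Module.End.mul_eq_comp, Module.End.mul_eq_comp, Submodule.map_comp, Submodule.map_comp,
          ih, h10, h01]
    have hsub : D 1 ≤ D 0 := by
      rw [← hodd' k, hYz]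
      rintro _ ⟨u, hu, rfl⟩
      exact (D 0).smul_mem z hu
    have h3 := hD.inf_eq_bot hm
    rw [inf_eq_right.mpr hsub] at h3
    have h4 := hD.dim 1
    rw [h3, finrank_bot] at h4
    omega

end Cfsg.Agent.Lib.ElusiveUnit.PolarPair
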