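import Mathlib
import Cfsg.Prelude.Def_GeometricClasses
import Cfsg.Agent.Lib.Unitary.Order
import Cfsg.Agent.Lib.Unitary.Transvection
import Cfsg.Agent.Lib.Elusive.GrassCount
import Cfsg.Agent.Lib.Elusive.RootScalar
import Cfsg.Agent.Lib.Elusive.Uniform
import Cfsg.Agent.Lib.ElusiveUnit.PolarPair

/-!
Elements of prime order of `SU` with no conjugate in the stabiliser of a pair of complementary
totally singular subspaces, and the elements that always have one.
Owner: helper86.
-/

set_option autoImplicit false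

namespace Cfsg.Agent.Lib.ElusiveUnit.PolarPair

open Matrix Module
open Cfsg.Agent.Lib.Unitary

variable {F : Type*} [Field F] [Fintype F] {q n m : ℕ}

/-- An element of projective order `r` of `SU` with no conjugate in the stabiliser of `D`. -/
def IsMover (q r : ℕ) (D : Fin 2 → Submodule F (Fin n → F)) (x : GL (Fin n) F) : Prop :=
  x ∈ GU n F q ⊓ Cfsg.Geo.specialLinear (Fin n) F ∧
  (∃ z : F, ((x ^ r : GL (Fin n) F) : Matrix (Fin n) (Fin n) F) = z • (1 : Matrix (Fin n) (Fin n) F)) ∧
  (∀ z : F, (x : Matrix (Fin n) (Fin n) F) ≠ z • (1 : Matrix (Fin n) (Fin n) F)) ∧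
  ∀ g ∈ GU n F q ⊓ Cfsg.Geo.specialLinear (Fin n) F,
    g⁻¹ * x * g ∉ Cfsg.Geo.decompositionStabilizer D

omit [Fintype F] in
theorem mem_sl_of_det {x : GL (Fin n) F} (h : (x : Matrix (Fin n) (Fin n) F).det = 1) :
    x ∈ Cfsg.Geo.specialLinear (Fin n) F :=
  MonoidHom.mem_ker.mpr (Units.ext h)

theorem exists_mover (hF : Fintype.card F = q ^ 2) (hm : n = 2 * m) (hm0 : 0 < m)
    {D : Fin 2 → Submodule F (Fin n → F)} (hD : IsPair q m D) {r : ℕ} {x : GL (Fin n) F}
    (hx : x ∈ GU n F q) (hdet : (x : Matrix (Fin n) (Fin n) F).det = 1)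
    (hr : ∃ z : F, ((x ^ r : GL (Fin n) F) : Matrix (Fin n) (Fin n) F) =
      z • (1 : Matrix (Fin n) (Fin n) F)) {μ : F} (hμ : μ * μ ^ q = 1)
    (hodd : Odd (finrank F ↥(LinearMap.ker
        (Matrix.toLin' (x : Matrix (Fin n) (Fin n) F) - μ • 1))))
    (hlt : finrank F ↥(LinearMap.ker (Matrix.toLin' (x : Matrix (Fin n) (Fin n) F) - μ • 1)) < n)
    (h : Odd r ∨
      m < finrank F ↥(LinearMap.ker (Matrix.toLin' (x : Matrix (Fin n) (Fin n) F) - μ • 1))) :
    ∃ y, IsMover q r D y := by
  refine ⟨x, ⟨hx, mem_sl_of_det hdet⟩, hr, fun z hz => ?_, fun g hg =>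
    no_conj hF hm hm0 hD hx hg.1 hμ hodd (h.symm.imp id fun ho => ⟨r, ho, hr⟩)⟩
  have hX : Matrix.toLin' (x : Matrix (Fin n) (Fin n) F) = z • (1 : Module.End F (Fin n → F)) := by
    rw [hz, map_smul, Matrix.toLin'_one, Module.End.one_eq_id]
  rw [show Matrix.toLin' (x : Matrix (Fin n) (Fin n) F) - μ • (1 : Module.End F (Fin n → F)) =
    (z - μ) • (1 : Module.End F (Fin n → F)) by rw [hX]; exact (sub_smul _ _ _).symm] at hlt hodd
  by_cases hzμ : z - μ = 0
  · rw [hzμ, zero_smul, LinearMap.ker_zero, finrank_top, finrank_fin_fun] at hlt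
    exact lt_irrefl n hlt
  · rw [LinearMap.ker_smul _ _ hzμ, show LinearMap.ker (1 : Module.End F (Fin n → F)) = ⊥ from
      LinearMap.ker_eq_bot.mpr Function.injective_id, finrank_bot] at hodd
    exact Nat.not_odd_zero hodd

/-- Transvections. -/
theorem exists_mover_tv (hF : Fintype.card F = q ^ 2) (hm : n = 2 * m) (hm2 : 2 ≤ m)
    {D : Fin 2 → Submodule F (Fin n → F)} (hD : IsPair q m D) {r : ℕ} (hr : (r : F) = 0) :
    ∃ x, IsMover q r D x := by
  classical
  have h2n : 2 ≤ n := by omega
  obtain ⟨a, ha⟩ := norm_surj hF (y := (-1 : F)) (by rw [neg_pow_q hF, one_pow])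
  set i₀ : Fin n := ⟨0, by omega⟩
  set i₁ : Fin n := ⟨1, by omega⟩
  have hne : i₀ ≠ i₁ := by simp [i₀, i₁, Fin.ext_iff]
  set v : Fin n → F := Pi.single i₀ 1 + a • Pi.single i₁ 1 with hv
  have hvv : hermForm n F q v v = 0 := by
    simp only [hv, herm_add_left, herm_add_right _ _ _ hF, herm_smul_left, herm_smul_right,
      herm_std hF, if_neg hne, if_neg hne.symm, if_true, mul_zero, add_zero, zero_add, mul_one]
    linear_combination ha
  have hv0 : v ≠ 0 := fun h => by
    have := congrFun h i₀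
    simp [hv, hne] at this
  obtain ⟨c, hc0, hc⟩ := exists_trace_zero_ne_zero hF
  obtain ⟨A, hA, hdet⟩ := exists_tv hF hvv hc
  set N := Matrix.toLin' (A.1 : Matrix (Fin n) (Fin n) F) - 1 with hN
  have hNu : ∀ u, N u = (c * hermForm n F q u v) • v := fun u => by
    rw [hN, LinearMap.sub_apply, Module.End.one_apply, Matrix.toLin'_apply, hA, add_sub_cancel_left]
  have hker : LinearMap.ker N = perp q (Submodule.span F {v}) := by
    ext u
    rw [LinearMap.mem_ker, mem_perp_span hF, hNu]
    simp [hc0, hv0]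
  have hk : finrank F ↥(LinearMap.ker N) = n - 1 := by
    have h := finrank_perp hF (Submodule.span F {v})
    rw [finrank_span_singleton hv0] at h
    rw [hker]
    omega
  have hsq : N * N = 0 := LinearMap.ext fun u => by
    rw [Module.End.mul_apply, hNu, hNu u, herm_smul_left, hvv, mul_zero, mul_zero, zero_smul,
      LinearMap.zero_apply]
  have hpow : ∀ k : ℕ, (1 + N) ^ k = 1 + (k : F) • N := by
    intro k
    induction k with
    | zero => simp
    | succ k ih =>
      rw [pow_succ, ih]
      simp only [add_mul, mul_add, one_mul, mul_one, Algebra.smul_mul_assoc, hsq, smul_zero,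
        add_zero, Nat.cast_succ, add_smul, one_smul]
      abel
  refine exists_mover hF hm (by omega) hD A.2 hdet ⟨1, ?_⟩ (μ := 1) (by simp) ?_ ?_ (Or.inr ?_)
  · refine Matrix.toLin'.injective ?_
    rw [Units.val_pow_eq_pow_val, Matrix.toLin'_pow, one_smul, Matrix.toLin'_one,
      ← Module.End.one_eq_id, show Matrix.toLin' (A.1 : Matrix (Fin n) (Fin n) F) = 1 + N from
        (add_sub_cancel _ _).symm, hpow, hr, zero_smul, add_zero]
  all_goals rw [one_smul, ← hN, hk]
  · rw [Nat.odd_iff]
    omega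
  · omega
  · omega

/-- Diagonal matrices of norm-one entries. -/
theorem exists_diag (hF : Fintype.card F = q ^ 2) (w : Fin n → F) (hw : ∀ i, w i * w i ^ q = 1)
    (hprod : ∏ i, w i = 1) :
    ∃ x : GL (Fin n) F, x ∈ GU n F q ∧ (x : Matrix (Fin n) (Fin n) F) = Matrix.diagonal w ∧
      (x : Matrix (Fin n) (Fin n) F).det = 1 ∧
      ∀ μ : F, finrank F ↥(LinearMap.ker (Matrix.toLin' (x : Matrix (Fin n) (Fin n) F) - μ • 1)) =
        Nat.card {i // w i = μ} := by
  classical
  have hd : (Matrix.diagonal w).det = 1 := by rw [Matrix.det_diagonal, hprod]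
  obtain ⟨y, hy⟩ : ∃ y : GL (Fin n) F, (y : Matrix (Fin n) (Fin n) F) = Matrix.diagonal w :=
    ⟨Matrix.GeneralLinearGroup.mkOfDetNeZero (Matrix.diagonal w) (by rw [hd]; exact one_ne_zero),
      rfl⟩
  refine ⟨y, fun u v => ?_, hy, by rw [hy, hd], fun μ => ?_⟩
  · show hermForm n F q ((y : Matrix (Fin n) (Fin n) F) *ᵥ u)
      ((y : Matrix (Fin n) (Fin n) F) *ᵥ v) = hermForm n F q u v
    rw [hy]
    simp only [hermForm, Matrix.mulVec_diagonal]
    refine Finset.sum_congr rfl fun i _ => ?_
    linear_combination (u i * v i ^ q) * hw i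
  · rw [show Matrix.toLin' (y : Matrix (Fin n) (Fin n) F) - μ • (1 : Module.End F (Fin n → F)) =
      Matrix.toLin' (Matrix.diagonal fun i => w i - μ) by
        rw [hy, show (μ • (1 : Module.End F (Fin n → F))) =
          Matrix.toLin' (μ • (1 : Matrix (Fin n) (Fin n) F)) by
            rw [map_smul, Matrix.toLin'_one, Module.End.one_eq_id], ← map_sub,
          Matrix.smul_one_eq_diagonal, Matrix.diagonal_sub]]
    have h := (Matrix.toLin' (Matrix.diagonal fun i => w i - μ)).finrank_range_add_finrank_ker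
    have hrk := Matrix.rank_diagonal (fun i => w i - μ)
    rw [Matrix.rank, ← Matrix.toLin'_apply'] at hrk
    rw [hrk, finrank_fin_fun] at h
    have hsum := Fintype.card_subtype_compl fun i => w i = μ
    have hle := Fintype.card_subtype_le fun i => w i = μ
    simp only [Fintype.card_fin] at hsum hle
    have heq : Fintype.card {i // w i - μ ≠ 0} = Fintype.card {i // ¬ w i = μ} :=
      Fintype.card_congr (Equiv.subtypeEquivRight fun i => by rw [sub_ne_zero])
    rw [Nat.card_eq_fintype_card]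
    omega

/-- Odd prime dividing `q + 1`. -/
theorem exists_mover_one (hF : Fintype.card F = q ^ 2) (hm : n = 2 * m) (hm2 : 2 ≤ m)
    {D : Fin 2 → Submodule F (Fin n → F)} (hD : IsPair q m D) {r : ℕ} [hr : Fact r.Prime]
    (h2 : r ≠ 2) (hdvd : r ∣ q + 1) : ∃ x, IsMover q r D x := by
  classical
  have hN := (card_normHom hF).1
  obtain ⟨u, hu⟩ := exists_prime_orderOf_dvd_card' (G := (normHom F q).ker) r (by rw [hN]; exact hdvd)
  set ζ : F := ((u : Fˣ) : F) with hζ
  have hζq : ζ * ζ ^ q = 1 := by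
    have := congrArg Units.val (MonoidHom.mem_ker.mp u.2)
    rw [← pow_succ']
    exact (Units.val_pow_eq_pow_val _ _).symm.trans this
  have hord : orderOf ζ = r := by rw [hζ, orderOf_units, Subgroup.orderOf_coe, hu]
  have hζr : ζ ^ r = 1 := hord ▸ pow_orderOf_eq_one ζ
  have hζ1 : ζ ≠ 1 := fun h => hr.out.ne_one (by rw [← hord, h, orderOf_one])
  have hζ0 : ζ ≠ 0 := fun h => by rw [h, zero_mul] at hζq; exact zero_ne_one hζq
  have hζinv : ζ⁻¹ ≠ ζ := fun h => by
    have h2' : ζ ^ 2 = 1 := by rw [pow_two]; nth_rewrite 1 [← h]; exact inv_mul_cancel₀ hζ0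
    have := Nat.le_of_dvd two_pos (hord ▸ orderOf_dvd_of_pow_eq_one h2')
    have := hr.out.two_le
    omega
  set i₀ : Fin n := ⟨0, by omega⟩
  set i₁ : Fin n := ⟨1, by omega⟩
  have hne : i₀ ≠ i₁ := by simp [i₀, i₁, Fin.ext_iff]
  set w : Fin n → F := Function.update (Function.update (fun _ => 1) i₁ ζ⁻¹) i₀ ζ with hwdef
  have hw : ∀ i, w i * w i ^ q = 1 ∧ w i ^ r = 1 := fun i => by
    rcases eq_or_ne i i₀ with rfl | h0
    · simp [hwdef, hζq, hζr]
    rcases eq_or_ne i i₁ with rfl | h1
    · simp only [hwdef, Function.update_of_ne h0, Function.update_self]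
      exact ⟨inv_norm_one hF hζq, by rw [inv_pow, hζr, inv_one]⟩
    · simp [hwdef, h0, h1]
  have hprod : ∏ i, w i = 1 := by
    rw [hwdef, Finset.prod_update_of_mem (Finset.mem_univ _),
      Finset.prod_update_of_mem (by simp [hne.symm])]
    simp [hζ0]
  obtain ⟨x, hx, hxw, hdet, hker⟩ := exists_diag hF w (fun i => (hw i).1) hprod
  have hcard : Nat.card {i // w i = ζ} = 1 := by
    rw [Nat.card_eq_one_iff_unique]
    refine ⟨⟨fun a b => Subtype.ext ?_⟩, ⟨⟨i₀, by simp [hwdef]⟩⟩⟩
    have key : ∀ i, w i = ζ → i = i₀ := fun i hi => by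
      by_contra h0
      rcases eq_or_ne i i₁ with rfl | h1
      · simp [hwdef, h0, hζinv] at hi
      · simp [hwdef, h0, h1, Ne.symm hζ1] at hi
    rw [key a a.2, key b b.2]
  refine exists_mover hF hm (by omega) hD hx hdet ⟨1, ?_⟩ hζq ?_ ?_
    (Or.inl (hr.out.odd_of_ne_two h2))
  · rw [Units.val_pow_eq_pow_val, hxw, Matrix.diagonal_pow, one_smul]
    rw [show w ^ r = 1 from funext fun i => (hw i).2, Matrix.diagonal_one']
  · rw [hker, hcard]; exact odd_one
  · rw [hker, hcard]; omega

/-- A square root of a scalar with a single exceptional eigenvalue. -/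
theorem exists_mover_two (hF : Fintype.card F = q ^ 2) (hm : n = 2 * m) (hm2 : 2 ≤ m)
    {D : Fin 2 → Submodule F (Fin n → F)} (hD : IsPair q m D) (h2 : (2 : F) ≠ 0)
    (hv : padicValNat 2 n < padicValNat 2 (q + 1)) : ∃ x, IsMover q 2 D x := by
  classical
  have hN := (card_normHom hF).1
  haveI : Fact (Nat.Prime 2) := ⟨Nat.prime_two⟩
  set c := padicValNat 2 n
  have hdvd : 2 ^ (c + 1) ∣ q + 1 :=
    (pow_dvd_pow 2 hv).trans pow_padicValNat_dvd
  obtain ⟨g, hg⟩ := IsCyclic.exists_ofOrder_eq_natCard (α := (normHom F q).ker)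
  rw [hN] at hg
  set μ : F := (((g ^ ((q + 1) / 2 ^ (c + 1)) : (normHom F q).ker) : Fˣ) : F) with hμdef
  have hord : orderOf μ = 2 ^ (c + 1) := by
    rw [hμdef, orderOf_units, Subgroup.orderOf_coe, orderOf_pow_of_dvd (by
      have := Nat.le_of_dvd (by omega) hdvd
      exact (Nat.div_pos this (by positivity)).ne') (by rw [hg]; exact Nat.div_dvd_of_dvd hdvd), hg,
      Nat.div_div_self hdvd (by omega)]
  have hμq : μ * μ ^ q = 1 := by
    rw [← pow_succ']
    exact orderOf_dvd_iff_pow_eq_one.mp (hord ▸ hdvd)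
  have hμc : μ ^ 2 ^ c = -1 := by
    have h1 : (μ ^ 2 ^ c) ^ 2 = 1 := by rw [← pow_mul, ← pow_succ, ← hord, pow_orderOf_eq_one]
    refine ((sq_eq_one_iff.mp h1).resolve_left fun h => ?_)
    have h3 := hord ▸ orderOf_dvd_of_pow_eq_one h
    have := Nat.le_of_dvd (by positivity) h3
    have := Nat.pow_lt_pow_right (one_lt_two) (Nat.lt_succ_self c)
    simp only [Nat.succ_eq_add_one] at this
    omega
  have hμn : μ ^ n = -1 := by
    obtain ⟨d, hd⟩ : 2 ^ c ∣ n := pow_padicValNat_dvd
    have hdo : Odd d := by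
      rw [← Nat.not_even_iff_odd, even_iff_two_dvd]
      intro h2d
      refine pow_succ_padicValNat_not_dvd (p := 2) (show n ≠ 0 by omega) ?_
      show 2 ^ (c + 1) ∣ n
      rw [hd, pow_succ]
      exact mul_dvd_mul_left _ h2d
    rw [hd, pow_mul, hμc, hdo.neg_one_pow]
  have hμ0 : μ ≠ 0 := fun h => by rw [h, zero_mul] at hμq; exact zero_ne_one hμq
  set i₀ : Fin n := ⟨0, by omega⟩
  set w : Fin n → F := Function.update (fun _ => μ) i₀ (-μ) with hwdef
  have hw : ∀ i, w i * w i ^ q = 1 ∧ w i ^ 2 = μ ^ 2 := fun i => by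
    rcases eq_or_ne i i₀ with rfl | h0
    · simp only [hwdef, Function.update_self]
      exact ⟨by rw [neg_pow_q hF]; linear_combination hμq, neg_sq μ⟩
    · simp [hwdef, h0, hμq]
  have hprod : ∏ i, w i = 1 := by
    rw [hwdef, Finset.prod_update_of_mem (Finset.mem_univ _), Finset.prod_const, neg_mul,
      ← pow_succ', show (Finset.univ \ {i₀}).card + 1 = n from ?_, hμn, neg_neg]
    rw [Finset.card_univ_diff, Fintype.card_fin, Finset.card_singleton]
    omega
  obtain ⟨x, hx, hxw, hdet, hker⟩ := exists_diag hF w (fun i => (hw i).1) hprod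
  have hcard : Nat.card {i // w i = μ} = n - 1 := by
    rw [Nat.card_eq_fintype_card, Fintype.card_congr (Equiv.subtypeEquivRight (q := fun i => ¬ i = i₀)
      fun i => ?_), Fintype.card_subtype_compl, Fintype.card_subtype_eq, Fintype.card_fin]
    rcases eq_or_ne i i₀ with rfl | h0
    · simp only [hwdef, Function.update_self, not_true, iff_false]
      intro h
      have : (2 : F) * μ = 0 := by linear_combination -h
      exact hμ0 ((mul_eq_zero.mp this).resolve_left h2)
    · simp [hwdef, h0]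
  refine exists_mover hF hm (by omega) hD hx hdet ⟨μ ^ 2, ?_⟩ hμq ?_ ?_ (Or.inr ?_)
  · rw [Units.val_pow_eq_pow_val, hxw, Matrix.diagonal_pow, Matrix.smul_one_eq_diagonal,
      show w ^ 2 = fun _ => μ ^ 2 from funext fun i => (hw i).2]
  all_goals rw [hker, hcard]
  · rw [Nat.odd_iff]
    omega
  · omega
  · omega

/-- Embedding of an element of prime order fixing `d` further dimensions. -/
theorem exists_ext (hF : Fintype.card F = q ^ 2) {i r : ℕ} (A : GU i F q) (hA : orderOf A = r)
    (hdet : A.1.1.det = 1) :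
    ∀ d, ∃ B : GU (i + d) F q, orderOf B = r ∧ B.1.1.det = 1 ∧
      d ≤ finrank F ↥(LinearMap.ker (Matrix.toLin' B.1.1 - 1)) := by
  intro d
  induction d with
  | zero => exact ⟨A, hA, hdet, Nat.zero_le _⟩
  | succ d ih =>
    obtain ⟨B, hB, hBd, hBk⟩ := ih
    refine ⟨embGU hF B, by rw [orderOf_injective _ (embGU_injective hF), hB],
      by rw [embGU_det, hBd], ?_⟩
    set K := LinearMap.ker (Matrix.toLin' B.1.1 - 1)
    set K' := LinearMap.ker (Matrix.toLin' (embGU hF B).1.1 - 1)
    have hmem : ∀ p : F × K, (Fin.cons p.1 (p.2 : Fin (i + d) → F) : Fin (i + d + 1) → F) ∈ K' := by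
      intro p
      have h := p.2.2
      simp only [K, LinearMap.mem_ker, LinearMap.sub_apply, Module.End.one_apply, sub_eq_zero,
        Matrix.toLin'_apply] at h
      simp [K', LinearMap.mem_ker, sub_eq_zero, embMat_mulVec, h]
    let L : F × K →ₗ[F] K' :=
      { toFun := fun p => ⟨_, hmem p⟩
        map_add' := fun a b => Subtype.ext (funext fun j => by
          refine Fin.cases ?_ (fun j => ?_) j <;> simp)
        map_smul' := fun c a => Subtype.ext (funext fun j => by
          refine Fin.cases ?_ (fun j => ?_) j <;> simp) }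
    have hL : Function.Injective L := fun a b h => by
      have h' := congrArg Subtype.val h
      simp only [L, LinearMap.coe_mk, AddHom.coe_mk] at h'
      obtain ⟨h1, h2⟩ := Fin.cons_inj.mp h'
      exact Prod.ext h1 (Subtype.ext h2)
    have h := LinearMap.finrank_le_finrank_of_injective hL
    rw [finrank_prod, finrank_self] at h
    show d + 1 ≤ finrank F K'
    omega

/-- An odd prime dividing `q ^ j + 1` for an odd `j`. -/
theorem exists_mover_gen (hF : Fintype.card F = q ^ 2) (hm : n = 2 * m) (hm2 : 2 ≤ m)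
    {D : Fin 2 → Submodule F (Fin n → F)} (hD : IsPair q m D) {r : ℕ} [hr : Fact r.Prime]
    (h2 : r ≠ 2) (hrF : (r : F) ≠ 0) {j : ℕ} (hj : Odd j) (hjn : j ≤ n) (hdvd : r ∣ q ^ j + 1) :
    ∃ x, IsMover q r D x := by
  classical
  by_cases h1 : r ∣ q + 1
  · exact exists_mover_one hF hm hm2 hD h2 h1
  have hex : ∃ i, Odd i ∧ r ∣ q ^ i + 1 := ⟨j, hj, hdvd⟩
  set i := Nat.find hex with hi
  obtain ⟨hio, hid⟩ : Odd i ∧ r ∣ q ^ i + 1 := Nat.find_spec hex
  have hij : i ≤ j := Nat.find_min' hex ⟨hj, hdvd⟩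
  have hq : Fintype.card F = q ^ 2 := hF
  have hord : orderOf ((Fintype.card F : ℕ) : ZMod r) = i := by
    haveI : NeZero r := ⟨hr.out.ne_zero⟩
    have hqi : (q : ZMod r) ^ i = -1 := by
      rw [eq_neg_iff_add_eq_zero]
      exact_mod_cast (ZMod.natCast_eq_zero_iff _ _).mpr hid
    have hne : (-1 : ZMod r) ≠ 1 := by
      intro h
      have h' : ((2 : ℕ) : ZMod r) = 0 := by push_cast; linear_combination -h
      exact h2 ((Nat.prime_dvd_prime_iff_eq hr.out Nat.prime_two).mp
        ((ZMod.natCast_eq_zero_iff _ _).mp h'))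
    rw [hq, Nat.cast_pow]
    set e := orderOf ((q : ZMod r) ^ 2) with he
    have hei : e ∣ i := orderOf_dvd_of_pow_eq_one (by
      rw [← pow_mul, mul_comm, pow_mul, hqi, neg_one_sq])
    have heo : Odd e := hio.of_dvd_nat hei
    have hqe : ((q : ZMod r) ^ e) ^ 2 = 1 := by
      rw [← pow_mul, mul_comm, pow_mul, he, pow_orderOf_eq_one]
    rcases sq_eq_one_iff.mp hqe with h | h
    · exfalso
      obtain ⟨k, hk⟩ := hei
      rw [hk, pow_mul, h, one_pow] at hqi
      exact hne hqi.symm
    · refine le_antisymm (Nat.le_of_dvd hio.pos hei) (Nat.find_min' hex ⟨heo, ?_⟩)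
      rw [← ZMod.natCast_eq_zero_iff]
      push_cast
      rw [h]
      ring
  -- an element of order `r` of `SU i`, extended by the identity
  have hcard : r ∣ Nat.card (GU i F q) := by
    rw [card_GU hF]
    refine Dvd.dvd.mul_left (hid.trans ?_) _
    have hmem : i - 1 ∈ Finset.range i := Finset.mem_range.mpr (by have := hio.pos; omega)
    refine (dvd_of_eq ?_).trans (Finset.dvd_prod_of_mem _ hmem)
    rw [if_pos (by obtain ⟨k, hk⟩ := hio; exact ⟨k, by omega⟩), Nat.sub_add_cancel hio.pos]
  obtain ⟨A, hA⟩ := exists_prime_orderOf_dvd_card' (G := GU i F q) r hcard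
  have hAd : A.1.1.det = 1 := by
    have hA1 : A.1.1.det ^ r = 1 := by
      have := congrArg (detGU i F q) (pow_orderOf_eq_one A)
      rw [hA, map_pow, map_one] at this
      simpa using congrArg Units.val this
    have hA2 : A.1.1.det ^ (q + 1) = 1 := by rw [pow_succ']; exact det_norm_one hF A
    rcases (Nat.dvd_prime hr.out).mp (orderOf_dvd_of_pow_eq_one hA1) with h | h
    · exact orderOf_eq_one_iff.mp h
    · exact absurd (h ▸ orderOf_dvd_of_pow_eq_one hA2) h1
  obtain ⟨d, hd⟩ : ∃ d, n = i + d := Nat.exists_eq_add_of_le (hij.trans hjn)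
  subst hd
  obtain ⟨x, hxr, hxd, hxk⟩ := exists_ext hF A hA hAd d
  set X := Matrix.toLin' x.1.1 with hX
  have hxr' : x.1.1 ^ r = 1 := by
    have := congrArg (fun y : GU (i + d) F q => y.1.1) (pow_orderOf_eq_one x)
    rwa [hxr] at this
  have hXr : X ^ r = (1 : F) ^ r • 1 := by
    rw [hX, ← Matrix.toLin'_pow, hxr', Matrix.toLin'_one, one_pow, one_smul, Module.End.one_eq_id]
  have hu := Elusive.isUniform_split (f := X) hrF one_ne_zero hXr
  rw [hord] at hu
  obtain ⟨k, -, -, hek⟩ := hu.exists_type (X := ⊤) (Elusive.Inv.top X)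
  rw [finrank_top, finrank_fin_fun, top_inf_eq] at hek
  obtain ⟨e, he⟩ : ∃ e, finrank F ↥(End.eigenspace X 1) = e := ⟨_, rfl⟩
  rw [he] at hek
  rw [End.eigenspace_def] at he
  have hek' : finrank F ↥(LinearMap.ker (X - (1 : F) • 1)) = e := he
  rw [one_smul] at hek'
  have hk1 : 1 ≤ k := by
    by_contra h0
    have hk0 : k = 0 := by omega
    rw [hk0, zero_mul, add_zero] at hek
    have htop : LinearMap.ker (X - 1) = ⊤ :=
      Submodule.eq_top_of_finrank_eq (by rw [hek', finrank_fin_fun]; omega)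
    rw [LinearMap.ker_eq_top, sub_eq_zero] at htop
    refine hr.out.ne_one (hxr.symm.trans (orderOf_eq_one_iff.mpr (GU_ext fun v => ?_)))
    rw [GU_one_mulVec, ← Matrix.toLin'_apply, ← hX, htop, Module.End.one_apply]
  have hke : k = 1 := by
    by_contra h
    have hk2 : 2 ≤ k := by omega
    have := Nat.mul_le_mul_right i hk2
    have hi3 := hio.pos
    omega
  have hed : e = d := by
    rw [hke, one_mul] at hek
    omega
  refine exists_mover hF hm (by omega) hD x.2 hxd ⟨1, ?_⟩ (μ := 1) (by simp) ?_ ?_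
    (Or.inl (hr.out.odd_of_ne_two h2))
  · rw [Units.val_pow_eq_pow_val, hxr', one_smul]
  all_goals rw [one_smul, ← hX, hek', hed]
  · obtain ⟨t, ht⟩ := hio
    exact ⟨(d - 1) / 2, by omega⟩
  · have := hio.pos
    omega

/-! ### The index -/

theorem prod_split {q : ℕ} (m : ℕ) :
    (∏ i ∈ Finset.range (2 * m), (if Even i then q ^ (i + 1) + 1 else q ^ (i + 1) - 1)) =
      (∏ k ∈ Finset.range m, (q ^ (2 * k + 1) + 1)) * Elusive.GrassCount.P (q ^ 2) m := by
  induction m with
  | zero => simp [Elusive.GrassCount.P]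
  | succ m ih =>
    rw [show 2 * (m + 1) = 2 * m + 1 + 1 by ring, Finset.prod_range_succ, Finset.prod_range_succ, ih,
      if_pos (even_two_mul m), if_neg (Nat.not_even_iff_odd.mpr ⟨m, rfl⟩), Finset.prod_range_succ,
      Elusive.GrassCount.P, Elusive.GrassCount.P, Finset.prod_range_succ,
      show (q ^ 2) ^ (m + 1) = q ^ (2 * m + 1 + 1) by rw [← pow_mul]; ring_nf]
    ring

theorem arith_of_index (hF : Fintype.card F = q ^ 2) (hm : n = 2 * m) (hm0 : 0 < m)
    {D : Fin 2 → Submodule F (Fin n → F)} (hD : IsPair q m D) {r : ℕ} [hr : Fact r.Prime]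
    (h : r ∣ (Cfsg.Geo.decompositionStabilizer D).relIndex
      (GU n F q ⊓ Cfsg.Geo.specialLinear (Fin n) F)) :
    (r : F) = 0 ∨ ∃ j, Odd j ∧ j ≤ n ∧ r ∣ q ^ j + 1 := by
  classical
  obtain ⟨b, hb0, hb1, hb⟩ := exists_frame hF hm hD
  set S := GU n F q ⊓ Cfsg.Geo.specialLinear (Fin n) F with hS
  set H := Cfsg.Geo.decompositionStabilizer D
  let δ : GL (Fin m) F →* Fˣ := Matrix.GeneralLinearGroup.det.comp (levi hF b)
  have hrange : Nat.card δ.range ∣ q + 1 := by
    rw [← (card_normHom hF).1]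
    refine Subgroup.card_dvd_of_le ?_
    rintro _ ⟨A, rfl⟩
    rw [MonoidHom.mem_ker]
    show δ A ^ (q + 1) = 1
    refine Units.ext ?_
    rw [Units.val_pow_eq_pow_val, Units.val_one, MonoidHom.comp_apply,
      Matrix.GeneralLinearGroup.val_det_apply, pow_succ']
    exact det_norm_one hF ⟨levi hF b A, levi_mem_GU hF hb A⟩
  have hK : δ.ker.map (levi hF b) ≤ H ⊓ S := by
    rintro _ ⟨A, hA, rfl⟩
    exact ⟨⟨1, fun k => levi_fix hF hD hb0 hb1 A k⟩, levi_mem_GU hF hb A, hA⟩
  have hKc : Nat.card δ.ker ∣ Nat.card ↥(H ⊓ S) := by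
    rw [← Subgroup.card_map_of_injective (levi_injective hF b)]
    exact Subgroup.card_dvd_of_le hK
  have hGL : Nat.card (GL (Fin m) F) ∣ Nat.card ↥(H ⊓ S) * (q + 1) := by
    rw [Subgroup.card_eq_card_quotient_mul_card_subgroup δ.ker,
      Nat.card_congr (QuotientGroup.quotientKerEquivRange δ).toEquiv, mul_comm]
    exact mul_dvd_mul hKc hrange
  have hSc : Nat.card S * (q + 1) = Nat.card (GU n F q) := by
    rw [mul_comm, ← card_SU hF (by omega), card_SU_eq_ker hF]
    congr 1
    refine Nat.card_congr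
      { toFun := fun s => ⟨⟨s.1, s.2.1⟩, MonoidHom.mem_ker.mpr (MonoidHom.mem_ker.mp s.2.2)⟩
        invFun := fun s => ⟨s.1.1, s.1.2, MonoidHom.mem_ker.mpr (MonoidHom.mem_ker.mp s.2)⟩
        left_inv := fun s => rfl
        right_inv := fun s => rfl }
  have hidx : Nat.card ↥(H ⊓ S) * H.relIndex S = Nat.card S := by
    have h1 := (H.subgroupOf S).card_mul_index
    rw [← Subgroup.inf_subgroupOf_right,
      Nat.card_congr (Subgroup.subgroupOfEquivOfLe (inf_le_right (a := H))).toEquiv] at h1
    rw [Subgroup.relIndex, ← Subgroup.inf_subgroupOf_right]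
    exact h1
  have hdiv : Nat.card (GL (Fin m) F) * r ∣ Nat.card (GU n F q) := by
    rw [← hSc, ← hidx]
    calc Nat.card (GL (Fin m) F) * r ∣ (Nat.card ↥(H ⊓ S) * (q + 1)) * H.relIndex S :=
          mul_dvd_mul hGL h
      _ = Nat.card ↥(H ⊓ S) * H.relIndex S * (q + 1) := by ring
  have hq1 := one_lt_q hF
  rw [card_GU hF, hm, prod_split, Matrix.card_GL_field, hF,
    Fin.prod_univ_eq_prod_range (fun i => (q ^ 2) ^ m - (q ^ 2) ^ i) m,
    Elusive.GrassCount.prod_sub_eq _ _ _ le_rfl] at hdiv
  have hP := Elusive.GrassCount.P_sub_mul (q ^ 2) m m le_rfl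
  rw [Nat.sub_self, show Elusive.GrassCount.P (q ^ 2) 0 = 1 by simp [Elusive.GrassCount.P], one_mul] at hP
  rw [hP] at hdiv
  set P := Elusive.GrassCount.P (q ^ 2) m
  set O := ∏ k ∈ Finset.range m, (q ^ (2 * k + 1) + 1)
  set a := (q ^ 2) ^ ∑ i ∈ Finset.range m, i
  set E := q ^ (2 * m * (2 * m - 1) / 2)
  have hPpos : 0 < P := Elusive.GrassCount.P_pos (by nlinarith) m
  have hd2 : a * r ∣ E * O := by
    refine Nat.dvd_of_mul_dvd_mul_right hPpos ?_
    calc a * r * P = a * P * r := by ring
      _ ∣ E * (O * P) := hdiv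
      _ = E * O * P := by ring
  rcases hr.out.dvd_mul.mp ((Dvd.intro_left a rfl).trans hd2) with hE | hO
  · left
    have hrq : r ∣ Fintype.card F := by
      rw [hF]
      exact dvd_pow (hr.out.dvd_of_dvd_pow hE) two_ne_zero
    obtain ⟨c, hc⟩ := hrq
    obtain ⟨p, hp⟩ := CharP.exists F
    have hpr : Fact p.Prime := ⟨CharP.char_is_prime F p⟩
    obtain ⟨k, hk⟩ := FiniteField.card F p
    have hrp : r ∣ p := hr.out.dvd_of_dvd_pow (hk.2 ▸ Dvd.intro c hc.symm)
    rw [(Nat.prime_dvd_prime_iff_eq hr.out hpr.out).mp hrp]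
    exact CharP.cast_eq_zero F p
  · right
    obtain ⟨k, hk, hd⟩ := (Prime.dvd_finset_prod_iff hr.out.prime _).mp hO
    exact ⟨2 * k + 1, odd_two_mul_add_one k, by have := Finset.mem_range.mp hk; omega, hd⟩

/-! ### Involutions that fix a pair -/

theorem fix_two (hF : Fintype.card F = q ^ 2) (hm : n = 2 * m) (hm0 : 0 < m) (h2 : (2 : F) ≠ 0)
    (hv : padicValNat 2 (q + 1) ≤ padicValNat 2 n)
    {D : Fin 2 → Submodule F (Fin n → F)} (hD : IsPair q m D) {x : GL (Fin n) F}
    (hx : x ∈ GU n F q) (hdet : (x : Matrix (Fin n) (Fin n) F).det = 1) {z : F}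
    (hz : ((x ^ 2 : GL (Fin n) F) : Matrix (Fin n) (Fin n) F) = z • (1 : Matrix (Fin n) (Fin n) F)) :
    ∃ g ∈ GU n F q ⊓ Cfsg.Geo.specialLinear (Fin n) F,
      g⁻¹ * x * g ∈ Cfsg.Geo.decompositionStabilizer D := by
  classical
  haveI : Fact (Nat.Prime 2) := ⟨Nat.prime_two⟩
  set X := Matrix.toLin' (x : Matrix (Fin n) (Fin n) F) with hXdef
  have hX : ∀ u w, hermForm n F q (X u) (X w) = hermForm n F q u w := hx
  have hX2 : X * X = z • (1 : Module.End F (Fin n → F)) := by
    rw [← pow_two, hXdef, ← Matrix.toLin'_pow, ← Units.val_pow_eq_pow_val, hz, map_smul,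
      Matrix.toLin'_one, Module.End.one_eq_id]
  have hn0 : 0 < n := by omega
  have hzq : z * z ^ q = 1 := by
    have h := hX (X (Pi.single ⟨0, hn0⟩ 1)) (X (Pi.single ⟨0, hn0⟩ 1))
    have h' := h.trans (hX (Pi.single ⟨0, hn0⟩ 1) (Pi.single ⟨0, hn0⟩ 1))
    rw [← Module.End.mul_apply, hX2, LinearMap.smul_apply, Module.End.one_apply, herm_smul_left,
      herm_smul_right, herm_std hF, if_pos rfl, mul_one] at h'
    exact h'
  have hz0 : z ≠ 0 := fun h => by rw [h, zero_mul] at hzq; exact zero_ne_one hzq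
  have hqodd : Odd q := by
    have hchar : ringChar F ≠ 2 := fun h => h2 (by
      have := ringChar.Nat.cast_ringChar (R := F)
      rw [h] at this
      exact_mod_cast this)
    have h' := FiniteField.odd_card_of_char_ne_two hchar
    rw [hF, ← Nat.odd_iff, Nat.odd_pow_iff two_ne_zero] at h'
    exact h'
  obtain ⟨μ, hμ⟩ : IsSquare z := by
    have hchar : ringChar F ≠ 2 := fun h => h2 (by
      have := ringChar.Nat.cast_ringChar (R := F)
      rw [h] at this
      exact_mod_cast this)
    rw [FiniteField.isSquare_iff hchar hz0, hF]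
    obtain ⟨t, ht⟩ := hqodd
    rw [show q ^ 2 / 2 = (q + 1) * t by
      rw [ht, show (2 * t + 1) ^ 2 = 1 + 2 * ((2 * t + 1 + 1) * t) by ring,
        Nat.add_mul_div_left _ _ two_pos]
      simp, pow_mul, pow_succ', hzq, one_pow]
  have hμ0 : μ ≠ 0 := fun h => hz0 (by rw [hμ, h, zero_mul])
  have hμμ : (μ * μ ^ q) ^ 2 = 1 := by
    rw [hμ] at hzq
    linear_combination hzq
  -- the eigenspaces
  let P : F → Submodule F (Fin n → F) := fun c => LinearMap.ker (X - c • 1)
  have hP : ∀ {c u}, u ∈ P c ↔ X u = c • u := fun {c u} => by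
    simp [P, LinearMap.mem_ker, sub_eq_zero]
  have hsum : ∀ u, ∃ a ∈ P μ, ∃ b ∈ P (-μ), u = a + b := by
    intro u
    have hXX : X (X u) = (μ * μ) • u := by
      rw [← Module.End.mul_apply, hX2, hμ, LinearMap.smul_apply, Module.End.one_apply]
    refine ⟨(2 * μ)⁻¹ • (μ • u + X u), hP.mpr ?_, (2 * μ)⁻¹ • (μ • u - X u), hP.mpr ?_, ?_⟩
    · simp only [map_smul, map_add, hXX]
      module
    · simp only [map_smul, map_sub, hXX]
      module
    · rw [← smul_add, show μ • u + X u + (μ • u - X u) = (2 * μ) • u by module, smul_smul,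
        inv_mul_cancel₀ (mul_ne_zero h2 hμ0), one_smul]
  have horth : ∀ c d : F, c * d ^ q ≠ 1 → ∀ u ∈ P c, ∀ w ∈ P d, hermForm n F q u w = 0 := by
    intro c d hcd u hu w hw
    have h := hX u w
    rw [hP.mp hu, hP.mp hw, herm_smul_left, herm_smul_right, ← mul_assoc] at h
    by_contra h0
    exact hcd (mul_eq_right₀ h0 |>.mp h)
  -- an invariant pair
  obtain ⟨W, hW, hWX⟩ : ∃ W, IsPair q m W ∧ ∀ k, ∀ u ∈ W k, X u ∈ W k := by
    rcases sq_eq_one_iff.mp hμμ with hpos | hneg
    · have hne1 : (-1 : F) ≠ 1 := fun h => h2 (by linear_combination -h)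
      have hperp : ∀ u ∈ P μ, ∀ w ∈ P (-μ), hermForm n F q u w = 0 := horth μ (-μ) (by
        rw [neg_pow_q hF, mul_neg, hpos]; exact hne1)
      have hnd : ∀ c ∈ ({μ, -μ} : Set F), Nondeg q (P c) := by
        intro c hc u hu hall
        refine herm_nondeg_left hF fun w => ?_
        obtain ⟨a, ha, b, hb, rfl⟩ := hsum w
        rw [herm_add_right _ _ _ hF]
        rcases hc with rfl | rfl
        · rw [hall a ha, hperp u hu b hb, add_zero]
        · rw [hall b hb, herm_eq_zero_symm hF (hperp a ha u hu), add_zero]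
      have hdis : P μ ⊓ P (-μ) = ⊥ := by
        refine eq_bot_iff.mpr fun u ⟨hu, hu'⟩ => ?_
        have h := (hP.mp hu).symm.trans (hP.mp hu')
        rw [← sub_eq_zero, ← sub_smul, smul_eq_zero] at h
        refine (Submodule.mem_bot F).mpr (h.resolve_left fun h' => hμ0 ?_)
        exact (mul_eq_zero.mp (show (2 : F) * μ = 0 by linear_combination h')).resolve_left h2
      obtain ⟨na, hna⟩ : ∃ k, finrank F (P μ) = k := ⟨_, rfl⟩
      obtain ⟨nb, hnbdef⟩ : ∃ k, finrank F (P (-μ)) = k := ⟨_, rfl⟩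
      obtain ⟨ea, hea, heaP, heas⟩ := exists_orthonormal_of_nondeg hF na _ hna (hnd μ (by simp))
      obtain ⟨eb, heb, hebP, hebs⟩ := exists_orthonormal_of_nondeg hF nb _ hnbdef
        (hnd (-μ) (by simp))
      have hab : na + nb = n := by
        have h := Submodule.finrank_sup_add_finrank_inf_eq (P μ) (P (-μ))
        rw [hdis, finrank_bot, show P μ ⊔ P (-μ) = ⊤ from eq_top_iff.mpr fun u _ => by
          obtain ⟨a, ha, b, hb, rfl⟩ := hsum u
          exact Submodule.add_mem_sup ha hb, finrank_top, finrank_fin_fun, hna, hnbdef] at h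
        omega
      -- the determinant forces even dimensions
      have hdetX : LinearMap.det X = μ ^ na * (-μ) ^ nb := by
        let eall : Fin na ⊕ Fin nb → Fin n → F := Sum.elim ea eb
        have hon : Orthonormal' q eall := by
          rintro (i | i) (j | j)
          · simpa [eall] using hea i j
          · simpa [eall] using hperp _ (heaP i) _ (hebP j)
          · simpa [eall] using herm_eq_zero_symm hF (hperp _ (heaP j) _ (hebP i))
          · simpa [eall] using heb i j
        let B := Basis.mk (orthonormal_linearIndependent hon)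
          ((orthonormal_linearIndependent hon).span_eq_top_of_card_eq_finrank' (by simp [hab])).ge
        have hB : ∀ t, X (B t) = Sum.elim (fun _ => μ) (fun _ => -μ) t • B t := by
          intro t
          simp only [B, Basis.mk_apply, eall]
          rcases t with i | i
          exacts [hP.mp (heaP i), hP.mp (hebP i)]
        rw [← LinearMap.det_toMatrix B, show LinearMap.toMatrix B B X =
          Matrix.diagonal (Sum.elim (fun _ => μ) (fun _ => -μ)) from ?_, Matrix.det_diagonal,
          Fintype.prod_sum_type]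
        · simp
        · ext s t
          rw [LinearMap.toMatrix_apply, hB, map_smul, B.repr_self, Finsupp.smul_single, smul_eq_mul,
            mul_one, Matrix.diagonal_apply, Finsupp.single_apply]
          rcases eq_or_ne s t with rfl | hst
          · simp
          · simp [hst, hst.symm]
      rw [hXdef, LinearMap.det_toLin', hdet, neg_pow μ nb, mul_left_comm, ← pow_add, hab] at hdetX
      have hnb : Even nb := by
        rcases Nat.even_or_odd nb with h | h
        · exact h
        · exfalso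
          rw [h.neg_one_pow] at hdetX
          have hμn : μ ^ n = -1 := by linear_combination hdetX
          obtain ⟨o, ho⟩ : 2 ^ padicValNat 2 (q + 1) ∣ q + 1 := pow_padicValNat_dvd
          have hoo : Odd o := by
            rw [← Nat.not_even_iff_odd, even_iff_two_dvd]
            intro h2o
            refine pow_succ_padicValNat_not_dvd (p := 2) (show q + 1 ≠ 0 by omega) ?_
            rw [pow_succ]
            nth_rewrite 2 [ho]
            exact mul_dvd_mul_left _ h2o
          obtain ⟨t, ht⟩ : 2 ^ padicValNat 2 (q + 1) ∣ n :=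
            (pow_dvd_pow 2 hv).trans pow_padicValNat_dvd
          have h1 : (μ ^ n) ^ o = 1 := by
            rw [ht, ← pow_mul, mul_right_comm, ← ho, pow_mul, pow_succ', hpos, one_pow]
          rw [hμn, hoo.neg_one_pow] at h1
          exact hne1 h1
      obtain ⟨sb, hsb⟩ := hnb
      obtain ⟨sa, hsa⟩ : Even na := by
        rw [Nat.even_iff]
        omega
      obtain ⟨α, hα⟩ := norm_surj hF (y := (-1 : F)) (by rw [neg_pow_q hF, one_pow])
      have hα0 : α ≠ 0 := fun h => by
        rw [h, zero_mul] at hα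
        exact one_ne_zero (neg_eq_zero.mp hα.symm)
      let W : Fin 2 → Submodule F (Fin n → F) := fun k =>
        Submodule.span F (Set.range (fun i : Fin sa =>
          ea ⟨i, by omega⟩ + (if k = 0 then α else -α) • ea ⟨sa + i, by omega⟩)) ⊔
        Submodule.span F (Set.range (fun i : Fin sb =>
          eb ⟨i, by omega⟩ + (if k = 0 then α else -α) • eb ⟨sb + i, by omega⟩))
      have hinA : ∀ (c : F), Submodule.span F (Set.range (fun i : Fin sa =>
          ea ⟨i, by omega⟩ + c • ea ⟨sa + i, by omega⟩)) ≤ P μ := fun c => by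
        refine Submodule.span_le.mpr ?_
        rintro _ ⟨j, rfl⟩
        exact (P μ).add_mem (heaP _) ((P μ).smul_mem _ (heaP _))
      have hinB : ∀ (c : F), Submodule.span F (Set.range (fun i : Fin sb =>
          eb ⟨i, by omega⟩ + c • eb ⟨sb + i, by omega⟩)) ≤ P (-μ) := fun c => by
        refine Submodule.span_le.mpr ?_
        rintro _ ⟨j, rfl⟩
        exact (P (-μ)).add_mem (hebP _) ((P (-μ)).smul_mem _ (hebP _))
      have hts : ∀ k, Cfsg.Geo.IsTotallySingularFor (hermForm n F q) (W k) := by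
        intro k
        set β := if k = 0 then α else -α with hβdef
        have hβ : β * β ^ q = -1 := by
          rw [hβdef]
          split_ifs
          · exact hα
          · rw [neg_pow_q hF, neg_mul_neg, hα]
        have hzero : ∀ {l s : ℕ} (e : Fin l → Fin n → F), Orthonormal' q e → ∀ (hl : l = s + s)
            (i j : Fin s), hermForm n F q (e ⟨i, by omega⟩ + β • e ⟨s + i, by omega⟩)
              (e ⟨j, by omega⟩ + β • e ⟨s + j, by omega⟩) = 0 := by
          intro l s e he hl i j
          simp only [herm_add_left, herm_add_right _ _ _ hF, herm_smul_left, herm_smul_right,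
            he _ _, Fin.mk.injEq]
          rw [if_neg (show ¬ ((i : ℕ) = s + j) by omega), if_neg (show ¬ (s + (i : ℕ) = j) by omega)]
          by_cases hij : (i : ℕ) = j
          · rw [if_pos hij, if_pos (by omega)]
            linear_combination hβ
          · rw [if_neg hij, if_neg (by omega)]
            ring
        intro u hu w hw
        have hmem : W k ≤ perp q (W k) := by
          refine sup_le (Submodule.span_le.mpr ?_) (Submodule.span_le.mpr ?_) <;>
            rintro _ ⟨i, rfl⟩ w hw <;>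
            obtain ⟨a, ha, b, hb, rfl⟩ := Submodule.mem_sup.mp hw <;>
            rw [herm_add_right _ _ _ hF]
          · rw [show hermForm n F q _ a = 0 from (mem_perp_span_range hF).mpr
              (fun j => hzero ea hea hsa i j) a ha,
              hperp _ ((P μ).add_mem (heaP _) ((P μ).smul_mem _ (heaP _))) b (hinB _ hb), add_zero]
          · rw [show hermForm n F q _ b = 0 from (mem_perp_span_range hF).mpr
              (fun j => hzero eb heb hsb i j) b hb,
              herm_eq_zero_symm hF (hperp a (hinA _ ha) _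
                ((P (-μ)).add_mem (hebP _) ((P (-μ)).smul_mem _ (hebP _)))), add_zero]
        exact hmem hu w hw
      have hsup : W 0 ⊔ W 1 = ⊤ := by
        have hgen : ∀ {l s : ℕ} (e : Fin l → Fin n → F) (U : Submodule F (Fin n → F)) (hl : l = s + s),
            (∀ i : Fin s, e ⟨i, by omega⟩ + α • e ⟨s + i, by omega⟩ ∈ U) →
            (∀ i : Fin s, e ⟨i, by omega⟩ + (-α) • e ⟨s + i, by omega⟩ ∈ U) →
            Submodule.span F (Set.range e) ≤ U := by
          intro l s e U hl hp hm'
          refine Submodule.span_le.mpr ?_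
          rintro _ ⟨t, rfl⟩
          by_cases ht : (t : ℕ) < s
          · have h := U.smul_mem (2 : F)⁻¹ (U.add_mem (hp ⟨t, ht⟩) (hm' ⟨t, ht⟩))
            rwa [show ∀ a b : Fin n → F, a + α • b + (a + (-α) • b) = (2 : F) • a from
              fun a b => by module, smul_smul, inv_mul_cancel₀ h2, one_smul] at h
          · have hlt : (t : ℕ) - s < s := by have := t.2; omega
            have h := U.smul_mem (2 * α)⁻¹ (U.sub_mem (hp ⟨_, hlt⟩) (hm' ⟨_, hlt⟩))
            rw [show ∀ a b : Fin n → F, a + α • b - (a + (-α) • b) = (2 * α) • b from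
              fun a b => by module, smul_smul, inv_mul_cancel₀ (mul_ne_zero h2 hα0), one_smul] at h
            rw [show (⟨s + (⟨(t : ℕ) - s, hlt⟩ : Fin s), by omega⟩ : Fin l) = t from
              Fin.ext (show s + ((t : ℕ) - s) = t by omega)] at h
            exact h
        refine eq_top_iff.mpr fun u _ => ?_
        obtain ⟨a, ha, b, hb, rfl⟩ := hsum u
        refine Submodule.add_mem _ ?_ ?_
        · rw [← heas] at ha
          exact hgen ea (W 0 ⊔ W 1) hsa (fun i => Submodule.mem_sup_left (Submodule.mem_sup_left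
            (Submodule.subset_span ⟨i, by simp⟩))) (fun i => Submodule.mem_sup_right
            (Submodule.mem_sup_left (Submodule.subset_span ⟨i, by simp⟩))) ha
        · rw [← hebs] at hb
          exact hgen eb (W 0 ⊔ W 1) hsb (fun i => Submodule.mem_sup_left (Submodule.mem_sup_right
            (Submodule.subset_span ⟨i, by simp⟩))) (fun i => Submodule.mem_sup_right
            (Submodule.mem_sup_right (Submodule.subset_span ⟨i, by simp⟩))) hb
      refine ⟨W, isPair_of_sup hF hm hts hsup, fun k u hu => ?_⟩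
      obtain ⟨a, ha, b, hb, rfl⟩ := Submodule.mem_sup.mp hu
      have haP : a ∈ P μ := hinA _ ha
      have hbP : b ∈ P (-μ) := hinB _ hb
      rw [map_add, hP.mp haP, hP.mp hbP]
      exact Submodule.add_mem _ (Submodule.mem_sup_left (Submodule.smul_mem _ _ ha))
        (Submodule.mem_sup_right (Submodule.smul_mem _ _ hb))
    · have hne1 : (-1 : F) ≠ 1 := fun h => h2 (by linear_combination -h)
      refine ⟨![P μ, P (-μ)], isPair_of_sup hF hm ?_ ?_, ?_⟩
      · intro k u hu w hw
        obtain rfl | rfl : k = 0 ∨ k = 1 := by omega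
        · exact horth μ μ (by rw [hneg]; exact hne1) u hu w hw
        · exact horth (-μ) (-μ) (by rw [neg_pow_q hF, neg_mul_neg, hneg]; exact hne1) u hu w hw
      · exact eq_top_iff.mpr fun u _ => by
          obtain ⟨a, ha, b, hb, rfl⟩ := hsum u
          exact Submodule.add_mem_sup (S := P μ) (T := P (-μ)) ha hb
      · intro k u hu
        obtain rfl | rfl : k = 0 ∨ k = 1 := by omega
        all_goals
          rw [hP.mp hu]
          exact Submodule.smul_mem _ _ hu
  obtain ⟨g, hg, hgD⟩ := exists_SU_map hF hm hm0 hD hW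
  refine ⟨g, hg, 1, fun k => map_eq_of_le _ fun u hu => ?_⟩
  have h1 : Matrix.toLin' (g : Matrix (Fin n) (Fin n) F) u ∈ W k := by
    rw [← hgD k]; exact Submodule.mem_map_of_mem hu
  have h3 := hWX k _ h1
  rw [← hgD k] at h3
  obtain ⟨v, hv', hv2⟩ := h3
  rw [Units.val_mul, Units.val_mul, Matrix.toLin'_mul, Matrix.toLin'_mul, LinearMap.comp_apply,
    LinearMap.comp_apply, ← hXdef, ← hv2, ← LinearMap.comp_apply, ← Matrix.toLin'_mul, ← Units.val_mul,
    inv_mul_cancel, Units.val_one, Matrix.toLin'_one, LinearMap.id_apply]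
  exact hv'

end Cfsg.Agent.Lib.ElusiveUnit.PolarPair
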