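import Mathlib
import Cfsg.Agent.Lib.ElusiveUnit.Frame
import Cfsg.Agent.Lib.Linear.Order
import Cfsg.Agent.Lib.Forms.Quad

/-!
The index of the unitary similitude group in `SL(n, q₀²)` and the derangements it gives.
Owner: helper86.
-/

set_option autoImplicit false

namespace Cfsg.Agent.Lib.ElusiveUnit

open Module
open scoped Matrix

variable {F : Type*} [Field F] [Fintype F] {n : ℕ} {q₀ : ℕ} {f : (Fin n → F) → (Fin n → F) → F}

/-- An element of order `r` without fixed vectors on a piece of dimension `ord_r q₀²` is no isometry. -/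
theorem no_isometry (hF : Fintype.card F = q₀ ^ 2) {r : ℕ} [hr : Fact r.Prime]
    (hrF : (r : F) ≠ 0) (hno : ∀ k, Odd k → (q₀ : ZMod r) ^ k ≠ -1) (hr2 : r ≠ 2)
    (hf : Cfsg.Geo.IsUnitaryFormPow q₀ f) (Z : Submodule F (Fin n → F))
    (hZd : finrank F Z = orderOf (Fintype.card F : ZMod r))
    (hZn : ∀ u ∈ Z, (∀ v ∈ Z, f u v = 0) → u = 0) (T : Module.End F Z) (hT : T ^ r = 1)
    (hfix : ∀ u, T u = u → u = 0) (hiso : ∀ u v : Z, f (T u) (T v) = f u v) : False := by
  classical
  set i := orderOf (Fintype.card F : ZMod r) with hi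
  have hi0 : 0 < i := Elusive.orderOf_card_pos hrF
  let b := Module.finBasisOfFinrankEq F Z hZd
  set M := LinearMap.toMatrix b b T with hM
  let G : Matrix (Fin i) (Fin i) F := Matrix.of fun k l => f (b k) (b l)
  have hMGM : M.transpose * G * M.map (fun a => a ^ q₀) = G := by
    ext k l
    have h := hiso (b k) (b l)
    rw [← b.sum_repr (T (b k)), ← b.sum_repr (T (b l))] at h
    simp only [Submodule.coe_sum, Submodule.coe_smul] at h
    rw [sum_left hf] at h
    simp only [sum_right hF hf, Finset.mul_sum] at h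
    rw [Finset.sum_comm] at h
    simp only [Matrix.mul_apply, Finset.sum_mul, Matrix.transpose_apply, Matrix.map_apply, M,
      LinearMap.toMatrix_apply, G, Matrix.of_apply]
    refine Eq.trans ?_ h
    refine Finset.sum_congr rfl fun a _ => Finset.sum_congr rfl fun c _ => ?_
    ring
  have hG : G.det ≠ 0 := by
    intro h0
    obtain ⟨c, hc, hcG⟩ := Matrix.exists_vecMul_eq_zero_iff.mpr h0
    have hu : (∑ k, c k • b k : Z) = 0 := by
      refine Subtype.ext (hZn _ (∑ k, c k • b k : Z).2 fun v hv => ?_)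
      rw [show v = ((⟨v, hv⟩ : Z) : Fin n → F) from rfl, ← b.sum_repr ⟨v, hv⟩]
      simp only [Submodule.coe_sum, Submodule.coe_smul]
      rw [sum_right hF hf]
      refine Finset.sum_eq_zero fun l _ => ?_
      rw [sum_left hf]
      have := congrFun hcG l
      simp only [Matrix.vecMul, dotProduct, G, Matrix.of_apply, Pi.zero_apply] at this
      rw [this, mul_zero]
    exact hc (funext fun k => Fintype.linearIndependent_iff.mp b.linearIndependent c hu k)
  -- an eigenvalue in an algebraic closure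
  let K := AlgebraicClosure F
  let φ : F →+* K := algebraMap F K
  set MK : Matrix (Fin i) (Fin i) K := M.map φ with hMK
  obtain ⟨α, hα⟩ := IsAlgClosed.exists_root (MK.charpoly) (by
    rw [Matrix.charpoly_degree_eq_dim, Fintype.card_fin]
    exact_mod_cast hi0.ne')
  have hMr : MK ^ r = 1 := by
    rw [hMK, ← RingHom.mapMatrix_apply, ← map_pow, hM, LinearMap.toMatrix_pow, hT,
      LinearMap.toMatrix_one, map_one]
  have heig : ∀ t : K, MK.charpoly.IsRoot t → t ^ r = 1 ∧ t ≠ 1 := by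
    intro t ht
    rw [Polynomial.IsRoot, Matrix.eval_charpoly] at ht
    obtain ⟨v, hv, hv'⟩ := Matrix.exists_mulVec_eq_zero_iff.mpr ht
    have hvt : MK *ᵥ v = t • v := by
      rw [Matrix.sub_mulVec, sub_eq_zero, Matrix.scalar_apply, ← Matrix.smul_one_eq_diagonal,
        Matrix.smul_mulVec, Matrix.one_mulVec] at hv'
      exact hv'.symm
    have hpow : ∀ k, MK ^ k *ᵥ v = t ^ k • v := fun k => by
      induction k with
      | zero => simp
      | succ k ih =>
        rw [pow_succ', ← Matrix.mulVec_mulVec, ih, Matrix.mulVec_smul, hvt, smul_smul, ← pow_succ]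
    refine ⟨?_, fun h1 => ?_⟩
    · have h := hpow r
      rw [hMr, Matrix.one_mulVec] at h
      exact (smul_left_injective K hv (show (1 : K) • v = t ^ r • v by rw [one_smul]; exact h)).symm
    · subst h1
      have hdet : (M - 1).det ≠ 0 := by
        intro h0
        obtain ⟨c, hc, hc'⟩ := Matrix.exists_mulVec_eq_zero_iff.mpr h0
        rw [Matrix.sub_mulVec, Matrix.one_mulVec, sub_eq_zero] at hc'
        have h2 : T (b.equivFun.symm c) = b.equivFun.symm c := by
          apply b.equivFun.injective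
          rw [LinearEquiv.apply_symm_apply, Basis.equivFun_apply,
            ← LinearMap.toMatrix_mulVec_repr b b T (b.equivFun.symm c), ← Basis.equivFun_apply,
            LinearEquiv.apply_symm_apply]
          exact hc'
        exact hc (by rw [← b.equivFun.apply_symm_apply c, hfix _ h2, map_zero])
      refine hdet (φ.injective ?_)
      rw [map_zero, RingHom.map_det, map_sub, map_one, RingHom.mapMatrix_apply, ← neg_sub, Matrix.det_neg]
      rw [show Matrix.scalar (Fin i) (1 : K) = 1 from map_one _] at ht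
      rw [ht, mul_zero]
  obtain ⟨hαr, hα1⟩ := heig α hα
  have hord : orderOf α = r := orderOf_eq_prime hαr hα1
  have hα0 : α ≠ 0 := fun h => by simp [h, hr.out.ne_zero] at hαr
  -- Frobenius maps
  obtain ⟨p, hp⟩ := CharP.exists F
  obtain ⟨e, hpp, hcard⟩ := FiniteField.card F p
  haveI : Fact p.Prime := ⟨hpp⟩
  haveI : CharP K p := charP_of_injective_algebraMap φ.injective p
  obtain ⟨k₀, hk₀⟩ : ∃ k₀, q₀ = p ^ k₀ := by
    obtain ⟨k, -, hk⟩ := (Nat.dvd_prime_pow hpp).mp (show q₀ ∣ p ^ (e : ℕ) from hcard ▸ hF ▸ dvd_pow_self q₀ two_ne_zero)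
    exact ⟨k, hk⟩
  have hfr : ∀ (t : K) (N : Matrix (Fin i) (Fin i) F) (d : ℕ),
      (Matrix.scalar (Fin i) t - N.map φ).det ^ p ^ d =
      (Matrix.scalar (Fin i) (t ^ p ^ d) - (N.map fun a => a ^ p ^ d).map φ).det := by
    intro t N d
    rw [← iterateFrobenius_def, RingHom.map_det, map_sub]
    congr 2
    · simp [Matrix.scalar_apply, Matrix.diagonal_map, iterateFrobenius_def, zero_pow (pow_ne_zero d hpp.ne_zero)]
    · ext a c; simp [iterateFrobenius_def, map_pow]
  have hconj : ∀ t, MK.charpoly.IsRoot t → MK.charpoly.IsRoot (t ^ Fintype.card F) := by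
    intro t ht
    rw [Polynomial.IsRoot, Matrix.eval_charpoly] at ht ⊢
    have h := hfr t M (e : ℕ)
    rw [ht, zero_pow (pow_ne_zero _ hpp.ne_zero), ← hcard] at h
    simp only [FiniteField.pow_card] at h
    exact h.symm
  have hinv : MK.charpoly.IsRoot ((α ^ q₀)⁻¹) := by
    rw [Polynomial.IsRoot, Matrix.eval_charpoly] at hα ⊢
    have h := hfr α M k₀
    rw [hα, zero_pow (pow_ne_zero _ hpp.ne_zero), ← hk₀] at h
    set N := (M.map fun a => a ^ q₀).map φ with hN
    have hrel : MK.transpose * G.map φ * N = G.map φ := by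
      have := congrArg (fun A : Matrix (Fin i) (Fin i) F => A.map φ) hMGM
      simp only [Matrix.map_mul, Matrix.transpose_map] at this
      exact this
    have key : MK.transpose * G.map φ * (Matrix.scalar (Fin i) (α ^ q₀) - N) =
        ((α ^ q₀) • MK.transpose - 1) * G.map φ := by
      rw [mul_sub, hrel, sub_mul, one_mul, Matrix.scalar_apply, ← Matrix.smul_one_eq_diagonal,
        Matrix.mul_smul, mul_one, Matrix.smul_mul]
    have h2 := congrArg Matrix.det key
    rw [Matrix.det_mul _ (Matrix.scalar (Fin i) (α ^ q₀) - N), ← h, mul_zero, Matrix.det_mul,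
      eq_comm, mul_eq_zero] at h2
    have hGK : (G.map φ).det ≠ 0 := by
      rw [← RingHom.mapMatrix_apply, ← RingHom.map_det]
      exact (map_ne_zero φ).mpr hG
    have h3 := h2.resolve_right hGK
    rw [show (α ^ q₀) • MK.transpose - 1 =
      (-(α ^ q₀)) • (Matrix.scalar (Fin i) (α ^ q₀)⁻¹ - MK).transpose by
        rw [Matrix.transpose_sub, Matrix.scalar_apply, ← Matrix.smul_one_eq_diagonal,
          Matrix.transpose_smul, Matrix.transpose_one, smul_sub, smul_smul, neg_mul,
          mul_inv_cancel₀ (pow_ne_zero _ hα0), neg_smul, one_smul, neg_smul]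
        abel, Matrix.det_smul, Matrix.det_transpose, mul_eq_zero] at h3
    exact h3.resolve_left (pow_ne_zero _ (neg_ne_zero.mpr (pow_ne_zero _ hα0)))
  -- the conjugates of `α` are all the roots
  have hne : MK.charpoly ≠ 0 := (Matrix.charpoly_monic MK).ne_zero
  set S := (Finset.range i).image fun j => α ^ (Fintype.card F ^ j) with hS
  have hSroot : ∀ t ∈ S, MK.charpoly.IsRoot t := by
    intro t ht
    obtain ⟨j, -, rfl⟩ := Finset.mem_image.mp ht
    clear ht
    induction j with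
    | zero => rwa [pow_zero, pow_one]
    | succ j ih =>
      rw [pow_succ, pow_mul]
      exact hconj _ ih
  have hcast : ∀ a c : ℕ, α ^ a = α ^ c → (a : ZMod r) = (c : ZMod r) := fun a c h => by
    rw [(orderOf_pos_iff.mp (hord ▸ hr.out.pos)).pow_eq_pow_iff_modEq] at h
    exact (ZMod.natCast_eq_natCast_iff a c r).mpr (hord ▸ h)
  have hScard : S.card = i := by
    rw [Finset.card_image_of_injOn, Finset.card_range]
    intro a ha c hc h
    have h1 := hcast _ _ h
    push_cast at h1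
    exact pow_injOn_Iio_orderOf (Finset.mem_range.mp ha) (Finset.mem_range.mp hc) h1
  have hmem : (α ^ q₀)⁻¹ ∈ S := by
    by_contra hnot
    have h1 := Polynomial.card_le_degree_of_subset_roots (p := MK.charpoly) (Z := insert ((α ^ q₀)⁻¹) S)
      (fun t ht => by
        rw [Polynomial.mem_roots hne]
        rcases Finset.mem_insert.mp (Finset.mem_val.mp ht) with rfl | h
        · exact hinv
        · exact hSroot t h)
    rw [Finset.card_insert_of_notMem hnot, hScard, Matrix.charpoly_natDegree_eq_dim,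
      Fintype.card_fin] at h1
    omega
  obtain ⟨j, -, hj⟩ := Finset.mem_image.mp hmem
  have h1 : α ^ (Fintype.card F ^ j + q₀) = α ^ (0 : ℕ) := by
    rw [pow_add, hj, inv_mul_cancel₀ (pow_ne_zero _ hα0), pow_zero]
  have h2 := hcast _ _ h1
  rw [hF] at h2
  push_cast at h2
  set Q : ZMod r := (q₀ : ZMod r) with hQ
  have hQ0 : Q ≠ 0 := fun h0 => by
    refine Elusive.card_cast_ne_zero (F := F) hrF (r := r) ?_
    rw [hF, Nat.cast_pow, ← hQ, h0, zero_pow two_ne_zero]
  have hQr : Q ^ (r - 1) = 1 := ZMod.pow_card_sub_one_eq_one hQ0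
  obtain ⟨s, hs⟩ : ∃ s, r - 1 = 2 * (s + 1) := by
    obtain ⟨m, hm⟩ := hr.out.odd_of_ne_two hr2
    exact ⟨m - 1, by have := hr.out.two_le; omega⟩
  refine hno (2 * (j + s) + 1) ⟨j + s, rfl⟩ (mul_right_cancel₀ hQ0 ?_)
  calc Q ^ (2 * (j + s) + 1) * Q = (Q ^ 2) ^ j * Q ^ (2 * (s + 1)) := by ring
    _ = -1 * Q := by rw [← hs, hQr, mul_one]; linear_combination h2

/-- A piece of dimension `ord_r q₀²` with `-q₀` outside the group generated by `q₀²`. -/
theorem exists_mover_split (hF : Fintype.card F = q₀ ^ 2) (hf : Cfsg.Geo.IsUnitaryFormPow q₀ f)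
    {r : ℕ} [hr : Fact r.Prime] (hr2 : r ≠ 2) (hrF : (r : F) ≠ 0)
    (hr1 : ¬ r ∣ Fintype.card F - 1) (hno : ∀ k, Odd k → (q₀ : ZMod r) ^ k ≠ -1)
    (hin : orderOf (Fintype.card F : ZMod r) ≤ n) : ∃ x, IsMover f r x := by
  set i := orderOf (Fintype.card F : ZMod r) with hi
  have hi0 : 0 < i := Elusive.orderOf_card_pos hrF
  have hn : 0 < n := by omega
  have hroot := root_eq_one (F := F) hr1
  have hrank : finrank F (Fin n → F) = n := finrank_fin_fun F
  obtain ⟨g, hg, hge⟩ := Elusive.exists_split (V := Fin n → F) hrF (n - i) 1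
    (by rw [hrank, one_mul]; omega)
  obtain ⟨x, hxS, hx⟩ := exists_gl g (hroot _ (Elusive.det_pow_eq_one hg))
  refine ⟨x, hxS, ⟨1, ?_⟩, fun z hz => ?_, fun P hPS hP => ?_⟩
  · rw [Elusive.Linear.eq_smul_one_iff, coe_pow_toLin, hx, hg, one_smul]
  · rw [Elusive.Linear.eq_smul_one_iff, hx] at hz
    subst hz
    have hz1 := smul_pow_eq_one hn hg
    have htop : End.eigenspace (z • (1 : Module.End F (Fin n → F))) 1 = ⊤ := by
      rw [eq_top_iff]
      intro v _
      rw [End.mem_eigenspace_iff, hroot z hz1]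
      simp
    rw [htop, finrank_top, hrank] at hge
    omega
  obtain ⟨f', hf', c, -, -, hfc⟩ := exists_form hF hf hn x P hP
  rw [hx] at hfc
  have hc1 : c = 1 := by
    obtain ⟨-, v, hv⟩ := hf'.nondegenerate (Pi.single ⟨0, hn⟩ 1) (by simp)
    have h1 := scalar_pow hf' hfc r (Pi.single ⟨0, hn⟩ 1) v
    rw [hg, Module.End.one_apply, Module.End.one_apply] at h1
    exact hroot c ((mul_eq_right₀ hv).mp h1.symm)
  have hu : Elusive.IsUniform g 1 i :=
    Elusive.isUniform_split hrF one_ne_zero (by rw [one_pow, one_smul, hg])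
  obtain ⟨Z, hZ, -, hdisj, hsup⟩ := Elusive.exists_compl hu.semisimple (Elusive.Inv.top g)
    (Elusive.Inv.of_le_eigenspace (le_refl (End.eigenspace g (1 : F)))) le_top
  have hZd : finrank F Z = i := by
    have h1 := Elusive.finrank_sup_of_disjoint (F := F) hdisj
    rw [hsup, finrank_top, hrank, hge] at h1
    omega
  let T : Module.End F Z := g.restrict (p := Z) (q := Z) fun y hy => hZ.mem hy
  have hfix : ∀ y : Z, T y = y → y = 0 := fun y hy => by
    have hy' : (y : Fin n → F) ∈ End.eigenspace g (1 : F) ⊓ Z := ⟨End.mem_eigenspace_iff.mpr (by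
      rw [one_smul]; exact congrArg Subtype.val hy), y.2⟩
    rw [hdisj] at hy'
    exact Subtype.ext hy'
  have hperp : ∀ p ∈ Z, ∀ v ∈ End.eigenspace g (1 : F), f' p v = 0 := by
    intro p hp v hv
    have hinj : Function.Injective (T - 1 : Module.End F Z) := by
      rw [injective_iff_map_eq_zero]
      exact fun y hy => hfix y (eq_of_sub_eq_zero hy)
    obtain ⟨y, hy⟩ := LinearMap.injective_iff_surjective.mp hinj ⟨p, hp⟩
    have hy' : g (y : Fin n → F) - (y : Fin n → F) = p := congrArg Subtype.val hy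
    have hgv : g v = v := by simpa using End.mem_eigenspace_iff.mp hv
    have h2 := hfc (y : Fin n → F) v
    rw [hgv, hc1, one_mul] at h2
    rw [← hy', sub_eq_add_neg, ← neg_one_smul F (y : Fin n → F), hf'.add_left, hf'.smul_left, h2]
    ring
  refine no_isometry hF hrF hno hr2 hf' Z hZd (fun u hu h => ?_) T ?_ hfix fun u v => ?_
  · by_contra hu0
    obtain ⟨-, y, hy⟩ := hf'.nondegenerate u hu0
    obtain ⟨a, ha, b, hb, rfl⟩ := Submodule.mem_sup.mp (hsup.ge (Submodule.mem_top (x := y)))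
    rw [add_right hF hf', hperp u hu a ha, h b hb, zero_add] at hy
    exact hy rfl
  · ext y : 1
    apply Subtype.ext
    rw [Module.End.pow_restrict r (fun y hy => hZ.mem hy)]
    simp [hg]
  · show f' (g u) (g v) = f' u v
    rw [hfc, hc1, one_mul]

theorem sq_sub_one_split (q : ℕ) (i : ℕ) : (q ^ 2) ^ (i + 1) - 1 =
    (if Even i then q ^ (i + 1) - 1 else q ^ (i + 1) + 1) *
      (if Even i then q ^ (i + 1) + 1 else q ^ (i + 1) - 1) := by
  rw [← pow_mul, mul_comm 2, pow_mul, ← one_pow 2, Nat.sq_sub_sq]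
  split_ifs <;> ring

/-- What a prime divisor of the index gives. -/
theorem arith_of_index (hF : Fintype.card F = q₀ ^ 2) (hf : Cfsg.Geo.IsUnitaryFormPow q₀ f) (hn : 1 ≤ n)
    {r : ℕ} [hr : Fact r.Prime] (hrq : ¬ r ∣ Fintype.card F)
    (hΩ : r ∣ (Cfsg.Geo.similarityGroup f).relIndex (Cfsg.Geo.specialLinear (Fin n) F)) :
    ∃ j, 2 ≤ j ∧ j ≤ n ∧
      ((Odd j ∧ (q₀ : ZMod r) ^ j = 1) ∨ (Even j ∧ (q₀ : ZMod r) ^ j = -1)) := by
  classical
  obtain ⟨m, rfl⟩ : ∃ m, n = m + 1 := ⟨n - 1, by omega⟩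
  obtain ⟨e, he⟩ := exists_onb hF hf
  have hq1 : 1 < q₀ := Unitary.one_lt_q hF
  -- transport from the standard form
  let L : (Fin (m + 1) → F) ≃ₗ[F] (Fin (m + 1) → F) := e.equivFun.symm
  have hL : ∀ u v, f (L u) (L v) = Cfsg.hermForm (m + 1) F q₀ u v := fun u v => by
    simp only [L, Basis.equivFun_symm_apply]
    rw [sum_left hf]
    refine Finset.sum_congr rfl fun i _ => ?_
    rw [sum_right hF hf]
    simp [he]
  let P : GL (Fin (m + 1)) F := Forms.glEquiv.symm L
  have hP : ∀ v, (P : Matrix (Fin (m + 1)) (Fin (m + 1)) F) *ᵥ v = L v := fun v => by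
    rw [← Forms.glEquiv_apply, MulEquiv.apply_symm_apply]
  let φ : Cfsg.SU (m + 1) F q₀ →* GL (Fin (m + 1)) F := (MulAut.conj P).toMonoidHom.comp
    (Matrix.SpecialLinearGroup.toGL.comp (Cfsg.SU (m + 1) F q₀).subtype)
  have hφ : Function.Injective φ := (MulAut.conj P).injective.comp
    (Matrix.SpecialLinearGroup.toGL_injective.comp Subtype.val_injective)
  have hSL : φ.range ≤ Cfsg.Geo.specialLinear (Fin (m + 1)) F := by
    rintro _ ⟨A, rfl⟩
    have h1 : Matrix.GeneralLinearGroup.det (Matrix.SpecialLinearGroup.toGL A.1) = 1 := Units.ext A.1.2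
    show Matrix.GeneralLinearGroup.det (P * Matrix.SpecialLinearGroup.toGL A.1 * P⁻¹) = 1
    rw [map_mul, map_mul, h1, mul_one, map_inv, mul_inv_cancel]
  have hle : φ.range ≤ Cfsg.Geo.similarityGroup f := by
    rintro _ ⟨A, rfl⟩
    refine ⟨1, fun u v => ?_⟩
    have hPi : ∀ u, L (((P⁻¹ : GL (Fin (m + 1)) F) : Matrix (Fin (m + 1)) (Fin (m + 1)) F) *ᵥ u) = u := fun u => by
      rw [← hP, Matrix.mulVec_mulVec, ← Units.val_mul, mul_inv_cancel, Units.val_one, Matrix.one_mulVec]
    show f ((P * Matrix.SpecialLinearGroup.toGL A.1 * P⁻¹ : GL (Fin (m + 1)) F).1 *ᵥ u)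
      ((P * Matrix.SpecialLinearGroup.toGL A.1 * P⁻¹ : GL (Fin (m + 1)) F).1 *ᵥ v) = _
    rw [Units.val_one, one_mul, Units.val_mul, Units.val_mul, ← Matrix.mulVec_mulVec, ← Matrix.mulVec_mulVec,
      ← Matrix.mulVec_mulVec, ← Matrix.mulVec_mulVec, hP, hP, hL]
    conv_rhs => rw [← hPi u, ← hPi v, hL]
    exact Unitary.mem_SU_iff.mp A.2 _ _
  have h1 : r ∣ φ.range.relIndex (Cfsg.Geo.specialLinear (Fin (m + 1)) F) :=
    hΩ.trans (Subgroup.relIndex_dvd_of_le_left _ hle)
  have h2 : φ.range.relIndex (Cfsg.Geo.specialLinear (Fin (m + 1)) F) * Nat.card φ.range =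
      Nat.card (Cfsg.Geo.specialLinear (Fin (m + 1)) F) := by
    rw [Subgroup.relIndex, ← Nat.card_congr (Subgroup.subgroupOfEquivOfLe hSL).toEquiv,
      Subgroup.index_mul_card]
  have hS : Nat.card (Cfsg.Geo.specialLinear (Fin (m + 1)) F) =
      Nat.card (Matrix.SpecialLinearGroup (Fin (m + 1)) F) :=
    Nat.card_congr (Cfsg.Agent.Lib.Linear.slEquivKerDet (ι := Fin (m + 1)) (F := F)).toEquiv.symm
  rw [Nat.card_congr (MonoidHom.ofInjective hφ).toEquiv.symm, hS] at h2
  set q := Fintype.card F with hq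
  have h3 := Lib.Linear.sub_one_mul_card_SL (F := F) (m + 1) (by omega)
  rw [← h2, ← hq] at h3
  have h4 : ∏ i : Fin (m + 1), (q ^ (m + 1) - q ^ (i : ℕ)) =
      q ^ (∑ i ∈ Finset.range (m + 1), i) * ∏ i ∈ Finset.range (m + 1), (q ^ (i + 1) - 1) := by
    rw [Fin.prod_univ_eq_prod_range (fun i => q ^ (m + 1) - q ^ i),
      ← Finset.prod_range_reflect (fun i => q ^ (i + 1) - 1),
      ← Finset.prod_pow_eq_pow_sum, ← Finset.prod_mul_distrib]
    refine Finset.prod_congr rfl fun i hi => ?_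
    rw [Finset.mem_range] at hi
    rw [Nat.mul_sub_one, ← pow_add, show i + (m + 1 - 1 - i + 1) = m + 1 by omega]
  set a : ℕ → ℕ := fun i => if Even i then q₀ ^ (i + 1) - 1 else q₀ ^ (i + 1) + 1 with ha
  set b : ℕ → ℕ := fun i => if Even i then q₀ ^ (i + 1) + 1 else q₀ ^ (i + 1) - 1 with hb
  have h5 : ∏ i ∈ Finset.range (m + 1), (q ^ (i + 1) - 1) =
      (∏ i ∈ Finset.range (m + 1), a i) * ∏ i ∈ Finset.range (m + 1), b i := by
    rw [← Finset.prod_mul_distrib, hF]
    exact Finset.prod_congr rfl fun i _ => sq_sub_one_split q₀ i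
  have hbpos : 0 < ∏ i ∈ Finset.range (m + 1), b i := Finset.prod_pos fun i _ => by
    simp only [hb]
    split_ifs
    · omega
    · exact Nat.sub_pos_of_lt (Nat.one_lt_pow (by omega) hq1)
  have hGU := Unitary.card_SU (n := m + 1) hF (by omega)
  rw [Unitary.card_GU hF] at hGU
  rw [h4, h5, Finset.prod_range_succ' a] at h3
  set E := ∑ i ∈ Finset.range (m + 1), i
  set N := φ.range.relIndex (Cfsg.Geo.specialLinear (Fin (m + 1)) F)
  set R := ∏ i ∈ Finset.range m, a (i + 1)
  have ha0 : a 0 = q₀ - 1 := by simp [ha]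
  have hq01 : q - 1 = (q₀ - 1) * (q₀ + 1) := by
    have h := Nat.sq_sub_sq q₀ 1
    rw [one_pow] at h
    rw [hF, h, mul_comm]
  rw [hq01, ha0] at h3
  have h6 : N * q₀ ^ ((m + 1) * (m + 1 - 1) / 2) = q ^ E * R := by
    refine Nat.eq_of_mul_eq_mul_left (show 0 < (q₀ - 1) * ∏ i ∈ Finset.range (m + 1), b i from
      Nat.mul_pos (by omega) hbpos) ?_
    calc (q₀ - 1) * (∏ i ∈ Finset.range (m + 1), b i) * (N * q₀ ^ ((m + 1) * (m + 1 - 1) / 2))
        = (q₀ - 1) * N * (q₀ ^ ((m + 1) * (m + 1 - 1) / 2) * ∏ i ∈ Finset.range (m + 1), b i) := by ring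
      _ = (q₀ - 1) * N * ((q₀ + 1) * Nat.card (Cfsg.SU (m + 1) F q₀)) := by rw [hGU]
      _ = (q₀ - 1) * (q₀ + 1) * (N * Nat.card (Cfsg.SU (m + 1) F q₀)) := by ring
      _ = _ := by rw [h3]; ring
  have h7 : r ∣ q ^ E * R := h6 ▸ h1.mul_right _
  rcases hr.out.dvd_mul.mp h7 with h8 | h8
  · exact absurd (hr.out.dvd_of_dvd_pow h8) hrq
  obtain ⟨i, hi, hd⟩ := (Prime.dvd_finsetProd_iff hr.out.prime _).mp h8
  rw [Finset.mem_range] at hi
  refine ⟨i + 2, by omega, by omega, ?_⟩
  simp only [ha, Nat.add_assoc] at hd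
  rw [← ZMod.natCast_eq_zero_iff] at hd
  by_cases hev : Even (i + 1)
  · rw [if_pos hev, Nat.cast_sub (Nat.one_le_pow _ _ (by omega)), sub_eq_zero] at hd
    exact Or.inl ⟨hev.add_one, by simpa using hd⟩
  · rw [if_neg hev] at hd
    refine Or.inr ⟨(Nat.not_even_iff_odd.mp hev).add_one, ?_⟩
    push_cast at hd
    exact eq_neg_of_add_eq_zero_left hd

/-- Derangements for every odd prime divisor of the index outside the two exceptional cases. -/
theorem exists_mover (hF : Fintype.card F = q₀ ^ 2) (hf : Cfsg.Geo.IsUnitaryFormPow q₀ f) (hn : 3 ≤ n)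
    {r : ℕ} [hr : Fact r.Prime] (hr2 : r ≠ 2) (hrF : (r : F) ≠ 0) (hgap : ¬ (n = 6 ∧ r = 3))
    (hexc : ¬ ((r = 3 ∨ r = 5) ∧ n = r ∧ padicValNat r (q₀ - 1) = 1))
    (hΩ : r ∣ (Cfsg.Geo.similarityGroup f).relIndex (Cfsg.Geo.specialLinear (Fin n) F)) :
    ∃ x, IsMover f r x := by
  classical
  have hrq : ¬ r ∣ Fintype.card F := fun hd => by
    rw [← ZMod.natCast_eq_zero_iff] at hd
    exact Elusive.card_cast_ne_zero hrF hd
  obtain ⟨j, hj2, hjn, hj⟩ := arith_of_index hF hf (by omega) hrq hΩ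
  set Q : ZMod r := (q₀ : ZMod r) with hQ
  have h1ne : (1 : ZMod r) ≠ -1 := fun h => by
    have h2 : ((2 : ℕ) : ZMod r) = 0 := by push_cast; linear_combination h
    rw [ZMod.natCast_eq_zero_iff] at h2
    exact hr2 ((Nat.prime_dvd_prime_iff_eq hr.out Nat.prime_two).mp h2)
  have hno : ∀ k, Odd k → Q ^ k ≠ -1 := by
    intro k hk h
    have h' := congrArg (· ^ j) h
    simp only [← pow_mul] at h'
    rw [mul_comm, pow_mul] at h'
    rcases hj with ⟨ho, hj⟩ | ⟨he, hj⟩ <;> rw [hj] at h'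
    · rw [one_pow, ho.neg_one_pow] at h'
      exact h1ne h'
    · rw [hk.neg_one_pow, he.neg_one_pow] at h'
      exact h1ne h'.symm
  have hq1 : 1 < q₀ := Unitary.one_lt_q hF
  by_cases hr1 : r ∣ Fintype.card F - 1
  · have hdq : r ∣ q₀ - 1 := by
      rw [hF, ← one_pow 2, Nat.sq_sub_sq] at hr1
      rcases hr.out.dvd_mul.mp hr1 with h | h
      · exfalso
        rw [← ZMod.natCast_eq_zero_iff, Nat.cast_add, Nat.cast_one, ← hQ] at h
        exact hno 1 odd_one (by rw [pow_one]; exact eq_neg_of_add_eq_zero_left h)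
      · exact h
    have hgen : ∀ k, r ^ k ∣ q₀ - 1 → ∃ u : F, orderOf u = r ^ k ∧ Unitary.conj hF u = u := by
      intro k hk
      obtain ⟨g, hg⟩ := IsCyclic.exists_generator (α := Fˣ)
      have ho : orderOf g = Fintype.card F - 1 := by
        rw [orderOf_eq_card_of_forall_mem_zpowers hg, Nat.card_units, Nat.card_eq_fintype_card]
      have hd : r ^ k ∣ orderOf g := by
        rw [ho, hF, ← one_pow 2, Nat.sq_sub_sq]
        exact hk.mul_left _
      have hou : orderOf (((g ^ (orderOf g / r ^ k) : Fˣ) : F)) = r ^ k := by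
        rw [orderOf_units]
        exact orderOf_pow_orderOf_div (orderOf_pos g).ne' hd
      refine ⟨_, hou, ?_⟩
      set u : F := ((g ^ (orderOf g / r ^ k) : Fˣ) : F)
      have hu1 : u ^ (q₀ - 1) = 1 := orderOf_dvd_iff_pow_eq_one.mp (hou ▸ hk)
      rw [Unitary.conj_apply]
      conv_lhs => rw [show q₀ = (q₀ - 1) + 1 by omega, pow_succ, hu1, one_mul]
    obtain ⟨ζ, hζ, hζfix⟩ := hgen 1 (by rwa [pow_one])
    rw [pow_one] at hζ
    by_cases hroot : n = r ∧ 2 ≤ padicValNat r (q₀ - 1)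
    · obtain ⟨ε, hε, hεfix⟩ := hgen 2 ((pow_dvd_pow r hroot.2).trans pow_padicValNat_dvd)
      obtain ⟨w, hw, hwfix⟩ := ElusiveOrth.exists_witness_of_root_sq hr2 hroot.1 hε _ hεfix
      exact exists_mover_of_witness hF hf (by omega) hw fun i => hwfix i
    have hne : ¬ ((r = 3 ∨ r = 5) ∧ n = r) := by
      rintro ⟨h35, hnr⟩
      have := one_le_padicValNat_of_dvd (p := r) (by omega) hdq
      exact hexc ⟨h35, hnr, by
        have := not_and.mp hroot hnr
        omega⟩
    by_cases h3 : r = 3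
    · subst h3
      obtain ⟨w, hw, hwfix⟩ := ElusiveOrth.exists_witness_three (n := n) hζ (by
        rcases hn.lt_or_eq with h | h
        · omega
        · exact absurd ⟨Or.inl rfl, h.symm⟩ hne) (fun h => hgap ⟨h, rfl⟩) _ hζfix
      exact exists_mover_of_witness hF hf (by omega) hw fun i => hwfix i
    · have hr5 : 5 ≤ r := by
        have := hr.out.two_le
        rcases Nat.lt_or_ge r 5 with h | h
        · have : r = 4 := by omega
          exact absurd hr.out (this ▸ by norm_num)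
        · exact h
      obtain ⟨w, hw, hwfix⟩ := ElusiveOrth.exists_witness_five (n := n) hζ hr.out hr5 hn
        (fun h => hne ⟨Or.inr h.2, h.1.trans h.2.symm⟩) _ hζfix
      exact exists_mover_of_witness hF hf (by omega) hw fun i => hwfix i
  · refine exists_mover_split hF hf hr2 hrF hr1 hno (le_trans (Nat.le_of_dvd (by omega) ?_) hjn)
    refine orderOf_dvd_of_pow_eq_one ?_
    rw [hF, Nat.cast_pow, ← pow_mul, mul_comm, pow_mul]
    rcases hj with ⟨-, hj⟩ | ⟨-, hj⟩ <;> rw [← hQ, hj] <;> ring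

end Cfsg.Agent.Lib.ElusiveUnit
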